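import Cfsg.Agent.Lib.M12Amalgam.Words
import Cfsg.Agent.Lib.QS3.Zero.Index
import Cfsg.Agent.Lib.QS3.Zero.Data

/-!
Six involutions in the Mathieu group of degree twelve.
-/

set_option autoImplicit false
set_option maxRecDepth 100000

namespace CfsgM12Amalgam

open Equiv Cfsg CfsgGolay
open scoped Pointwise

/-- The packed codes of the five generators. -/
def genCodes : List ℕ := [235858092014725848871085848532159489, 235742061483406767849477376128910432,
  721064549862662597311266359538158624, 481806782839919971316375427291060364, 928941295532696057910029549322843652]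

theorem genCodes_ok : ∀ i < 5, Repr (genCodes.getD i 0) (CfsgQS3.Zero.p12 i) ∧ gensKept (genCodes.getD i 0) = true ∧
    pmask (genCodes.getD i 0) 340831 = 340831 := by decide +kernel

theorem gen_mem {i : ℕ} (hi : i < 5) : CfsgQS3.Zero.p12 i ∈ Spor.M12 := by
  obtain ⟨hr, hk, hm⟩ := genCodes_ok i hi
  refine ⟨mem_M24_of_gensKept hr hk, ?_⟩
  show CfsgQS3.Zero.p12 i • Spor.squareDodecad = Spor.squareDodecad
  rw [Spor.squareDodecad, squares_eq, Finset.smul_finset_def]
  exact (hr.toSet_pmask 340831).symm.trans (by rw [hm])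

/-- The images of the points under the six involutions. -/
def mTab : List (List ℕ) := [

  [0, 1, 3, 2, 12, 5, 6, 7, 18, 9, 10, 22, 4, 16, 14, 21, 13, 23, 8, 20, 19, 15, 11, 17],
  [1, 0, 3, 2, 4, 14, 6, 7, 16, 9, 10, 11, 12, 18, 5, 19, 8, 23, 13, 15, 21, 20, 22, 17],
  [9, 1, 3, 2, 8, 5, 6, 14, 4, 0, 10, 11, 18, 13, 7, 17, 16, 15, 12, 20, 19, 23, 22, 21],
  [0, 9, 18, 8, 4, 5, 6, 7, 3, 1, 14, 15, 12, 16, 10, 11, 13, 23, 2, 19, 20, 22, 21, 17],
  [0, 1, 16, 8, 6, 20, 4, 7, 3, 9, 22, 11, 12, 18, 21, 15, 2, 23, 13, 19, 5, 14, 10, 17],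
  [8, 16, 3, 2, 9, 5, 6, 7, 0, 4, 11, 10, 12, 13, 14, 19, 1, 20, 18, 15, 17, 23, 22, 21]]

/-- The six maps. -/
def mFun (i : ℕ) (q : GolayPt) : GolayPt := pt ((mTab.getD i (List.range 24)).getD (idx q) 0)

theorem mFun_invol_six : ∀ i : Fin 6, ∀ q : GolayPt, mFun i (mFun i q) = q := by decide +kernel

theorem mFun_invol_rest : ∀ q : GolayPt, pt ((List.range 24).getD (idx q) 0) = q := by decide +kernel

theorem mFun_invol (i : ℕ) : Function.Involutive (mFun i) := by
  intro q
  rcases Nat.lt_or_ge i 6 with h | h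
  · exact mFun_invol_six ⟨i, h⟩ q
  · unfold mFun
    rw [List.getD_eq_default (l := mTab) (hn := h), mFun_invol_rest, mFun_invol_rest]

/-- The six involutions. -/
def mu (i : ℕ) : Perm GolayPt := (mFun_invol i).toPerm

theorem mu_sq (i : ℕ) : mu i * mu i = 1 := Equiv.ext fun q => mFun_invol i q

theorem mu_high {i : ℕ} (h : 6 ≤ i) : mu i = 1 := Equiv.ext fun q => by
  show mFun i q = q
  unfold mFun
  rw [List.getD_eq_default (l := mTab) (hn := h), mFun_invol_rest]

/-- Words in the generators of the Mathieu group. -/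
def mWords : List (List ℕ) := [[2], [0, 3, 0, 3], [2, 3, 4, 2, 1, 3, 2, 4], [0, 4, 2, 0, 1, 3, 0, 3, 4, 4], [2, 3, 0, 1, 3, 3, 0, 3], [3, 1, 2, 3, 0]]

theorem mu_words : ∀ i : Fin 6, ∀ q : GolayPt,
    mu i q = ((mWords.getD i []).map CfsgQS3.Zero.p12).prod q := by decide +kernel

theorem mWords_lt : (mWords.all fun w => w.all fun i => decide (i < 5)) = true := by decide

theorem mu_mem (i : ℕ) : mu i ∈ Spor.M12 := by
  rcases Nat.lt_or_ge i 6 with h | h
  · rw [show mu i = ((mWords.getD i []).map CfsgQS3.Zero.p12).prod from Equiv.ext (mu_words ⟨i, h⟩)]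
    refine Subgroup.list_prod_mem _ fun a ha => ?_
    obtain ⟨j, hj, rfl⟩ := List.mem_map.1 ha
    have hmem : mWords.getD i [] ∈ mWords := by
      rw [List.getD_eq_getElem _ _ (show i < mWords.length from h)]
      exact List.getElem_mem _
    exact gen_mem (of_decide_eq_true (List.all_eq_true.1 (List.all_eq_true.1 mWords_lt _ hmem) j hj))
  · rw [mu_high h]
    exact one_mem _

/-- The six involutions as elements of the Mathieu group. -/
def mu' (i : ℕ) : ↥Spor.M12 := ⟨mu i, mu_mem i⟩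

theorem mu'_sq (i : ℕ) : mu' i * mu' i = 1 := Subtype.ext (mu_sq i)

theorem val_mu' (w : List ℕ) : ((val mu' w : ↥Spor.M12) : Perm GolayPt) = val mu w := by
  induction w with
  | nil => rfl
  | cons a l ih => simp only [val, List.map_cons, List.prod_cons, Subgroup.coe_mul] at ih ⊢; rw [ih]; rfl

/-- The packed images of three points. -/
def sigM (w : List ℕ) : ℕ :=
  576 * idx (val mu w (pt 2)) + 24 * idx (val mu w (pt 3)) + idx (val mu w (pt 4))

theorem wm_ok : (incr (WM.map sigM) && WM.all okA && WM.length == 432) = true := by decide +kernel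

/-- A word of order eleven. -/
def m11 : List ℕ := [0, 5, 3, 4]

/-- A word of order five. -/
def m5 : List ℕ := [5, 3]

theorem m_orders : (∀ q : GolayPt, (val mu m11 ^ 11) q = q) ∧ (¬ ∀ q : GolayPt, val mu m11 q = q) ∧
    (∀ q : GolayPt, (val mu m5 ^ 5) q = q) ∧ (¬ ∀ q : GolayPt, val mu m5 q = q) := by decide +kernel

end CfsgM12Amalgam
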