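import Cfsg.Agent.S3331

/-!
A relation in a finite group whose quotient by a central involution has a self-centralising subgroup of order three.
-/

set_option autoImplicit false

namespace CfsgM12Amalgam

theorem trace_cases : ∀ a b c d : ZMod 7, a * d - b * c = 1 →
    (a * a + b * c = d * d + b * c ∧ a * b + b * d = 0 ∧ c * a + d * c = 0) →
    d = -a ∨ (b = 0 ∧ c = 0 ∧ a = d) := by
  decide +kernel

theorem cyclic_vector : ∀ a b c : ZMod 7, -(a * a) - b * c = 1 →
    ∃ v : ZMod 7, ∃ w : ZMod 7, v * (c * v - a * w) - w * (a * v + b * w) = 1 := by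
  decide +kernel

theorem alt5_no_four : ∀ g : alternatingGroup (Fin 5), (g * g) * (g * g) = 1 → g * g = 1 := by decide +kernel

theorem sym3_no_four : ∀ g : Equiv.Perm (Fin 3), (g * g) * (g * g) = 1 → g * g = 1 := by decide +kernel

/-- All involutions of the simple group of order 168 are conjugate. -/
theorem psl27_invol {p q : Matrix.ProjectiveSpecialLinearGroup (Fin 2) (ZMod 7)} (hp : p * p = 1) (hp1 : p ≠ 1)
    (hq : q * q = 1) (hq1 : q ≠ 1) : ∃ g, p = g * q * g⁻¹ := by
  let j : Matrix.SpecialLinearGroup (Fin 2) (ZMod 7) := ⟨!![0, -1; 1, 0], by simp [Matrix.det_fin_two]⟩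
  have key : ∀ p : Matrix.ProjectiveSpecialLinearGroup (Fin 2) (ZMod 7), p * p = 1 → p ≠ 1 →
      ∃ g, p = g * (j : Matrix.ProjectiveSpecialLinearGroup (Fin 2) (ZMod 7)) * g⁻¹ := by
    intro p hp hp1
    induction p using QuotientGroup.induction_on with | H m => ?_
    rw [← QuotientGroup.mk_mul, QuotientGroup.eq_one_iff, Matrix.SpecialLinearGroup.mem_center_iff] at hp
    obtain ⟨r, -, hr⟩ := hp
    have hnc : m ∉ Subgroup.center (Matrix.SpecialLinearGroup (Fin 2) (ZMod 7)) :=
      fun h => hp1 ((QuotientGroup.eq_one_iff m).2 h)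
    have e : ∀ i k, (m.1 * m.1) i k = if i = k then r else 0 := fun i k => by
      rw [← Matrix.SpecialLinearGroup.coe_mul, ← hr]
      simp [Matrix.scalar, Matrix.diagonal_apply]
    have e00 := e 0 0; have e01 := e 0 1; have e10 := e 1 0; have e11 := e 1 1
    simp [Matrix.mul_apply, Fin.sum_univ_two] at e00 e01 e10 e11
    have hd := m.2
    rw [Matrix.det_fin_two] at hd
    rcases trace_cases (m.1 0 0) (m.1 0 1) (m.1 1 0) (m.1 1 1) hd
      ⟨by linear_combination e00 - e11, by linear_combination e01, by linear_combination e10⟩ with h | ⟨hb, hc, had⟩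
    · obtain ⟨v, w, hvw⟩ := cyclic_vector (m.1 0 0) (m.1 0 1) (m.1 1 0) (by rw [h] at hd; linear_combination hd)
      let g : Matrix.SpecialLinearGroup (Fin 2) (ZMod 7) :=
        ⟨!![v, m.1 0 0 * v + m.1 0 1 * w; w, m.1 1 0 * v - m.1 0 0 * w], by
          simp [Matrix.det_fin_two]; linear_combination hvw⟩
      refine ⟨g, ?_⟩
      have hgm : g * j = m * g := by
        rw [h] at hd
        refine Subtype.ext (Matrix.ext fun i k => ?_)
        rw [Matrix.SpecialLinearGroup.coe_mul, Matrix.SpecialLinearGroup.coe_mul]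
        fin_cases i <;> fin_cases k <;> simp [g, j, Matrix.mul_apply, Fin.sum_univ_two, h]
        all_goals first
          | ring1
          | linear_combination v * hd
          | linear_combination -v * hd
          | linear_combination w * hd
          | linear_combination -w * hd
      rw [← QuotientGroup.mk_inv, ← QuotientGroup.mk_mul, ← QuotientGroup.mk_mul, hgm, mul_inv_cancel_right]
    · refine absurd (Matrix.SpecialLinearGroup.mem_center_iff.2 ⟨m.1 0 0, ?_, ?_⟩) hnc
      · rw [hb, had] at hd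
        simp only [Fintype.card_fin, sq]
        rw [had]
        linear_combination hd
      · ext i k
        fin_cases i <;> fin_cases k <;> simp [Matrix.scalar, hb, hc, had]
  obtain ⟨g, hg⟩ := key p hp hp1
  obtain ⟨g', hg'⟩ := key q hq hq1
  exact ⟨g * g'⁻¹, by rw [hg, hg']; group⟩

/-- The hypotheses of the relation. -/
structure CubeData {K : Type*} [Group K] (h c y u v : K) : Prop where
  hc : ∀ g, g * h = h * g
  hh : h * h = 1
  h1 : h ≠ 1
  y3 : y ^ 3 = 1
  y1 : y ≠ 1
  cc : c * c = 1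
  cy : c * y * c⁻¹ = y⁻¹
  cent : ∀ g, g * y = y * g → ∃ i j : ℕ, g = y ^ i * h ^ j
  uu : u * u = h
  uy : u * (y * u * y⁻¹) = y * y * u * y⁻¹ * y⁻¹
  cu : c * u * c⁻¹ = u * h
  vv : v * v = h
  vy : v * (y * v * y⁻¹) = y * y * v * y⁻¹ * y⁻¹
  cv : c * v * c⁻¹ = v * h

/-- In a group without elements of order four the four-groups collapse. -/
theorem four_collapse {R : Type*} [Group R] (h4 : ∀ g : R, (g * g) * (g * g) = 1 → g * g = 1) {a c Y : R}
    (ha : a * a = 1) (hY : Y ^ 3 = 1) (hc : c * c = 1) (hcY : c * Y * c⁻¹ = Y⁻¹) (hca : c * a * c⁻¹ = a)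
    (hrel : a * (Y * a * Y⁻¹) = Y * Y * a * Y⁻¹ * Y⁻¹) : a = 1 := by
  set a' := Y * a * Y⁻¹ with ha'
  set a'' := Y * Y * a * Y⁻¹ * Y⁻¹ with ha''
  have hY2 : Y * Y = Y⁻¹ := eq_inv_of_mul_eq_one_left (by rw [← hY, pow_succ, pow_two])
  have hs : a' * a' = 1 := by
    calc _ = Y * (a * a) * Y⁻¹ := by rw [ha']; group
      _ = 1 := by rw [ha]; group
  have hs' : a'' * a'' = 1 := by
    calc _ = Y * Y * (a * a) * Y⁻¹ * Y⁻¹ := by rw [ha'']; group
      _ = 1 := by rw [ha]; group
  have hcomm : a' * a = a'' := by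
    calc a' * a = a'⁻¹ * a⁻¹ := by rw [inv_eq_of_mul_eq_one_right hs, inv_eq_of_mul_eq_one_right ha]
      _ = (a * a')⁻¹ := by group
      _ = a'' := by rw [hrel, inv_eq_of_mul_eq_one_right hs']
  have hsw : c * a' * c = a'' := by
    calc c * a' * c = (c * Y * c⁻¹) * (c * a * c⁻¹) * (c * Y * c⁻¹)⁻¹ * (c * c) := by rw [ha']; group
      _ = Y * Y * a * (Y * Y)⁻¹ := by rw [hcY, hca, hc, ← hY2, mul_one]
      _ = a'' := by rw [ha'']; group
  clear_value a' a''
  have hr : (a' * c) * (a' * c) = a := by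
    calc _ = a' * (c * a' * c) := by group
      _ = (a' * a') * a := by rw [hsw, ← hcomm]; simp only [mul_assoc]
      _ = a := by rw [hs, one_mul]
  rw [← hr]
  exact h4 _ (by rw [hr, ha])

section
variable {K : Type*} [Group K] [Finite K] {h c y u v : K} (D : CubeData h c y u v)
include D

theorem CubeData.cube : (u * v * y) ^ 3 = 1 ∨ (u * v * y) ^ 3 = h := by
  haveI hn : (Subgroup.zpowers h).Normal := ⟨fun n hn g => by
    obtain ⟨i, rfl⟩ := Subgroup.mem_zpowers_iff.1 hn
    exact ⟨i, by rw [← conj_zpow, D.hc g, mul_inv_cancel_right]⟩⟩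
  have hmem : ∀ g ∈ Subgroup.zpowers h, g = 1 ∨ g = h := by
    intro g hg
    obtain ⟨i, rfl⟩ := Subgroup.mem_zpowers_iff.1 hg
    rcases Int.even_or_odd i with ⟨j, rfl⟩ | ⟨j, rfl⟩
    · left; rw [← two_mul, zpow_mul]; simp [D.hh, sq]
    · right; rw [zpow_add, zpow_mul]; simp [D.hh, sq]
  set π := QuotientGroup.mk' (Subgroup.zpowers h) with hπ
  have hker : ∀ g, π g = 1 → g = 1 ∨ g = h := fun g hg => hmem g ((QuotientGroup.eq_one_iff g).1 hg)
  have hπh : π h = 1 := (QuotientGroup.eq_one_iff h).2 (Subgroup.mem_zpowers h)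
  suffices hs : π (u * v * y) ^ 3 = 1 by exact hker _ (by rw [map_pow]; exact hs)
  have y3' : π y ^ 3 = 1 := by rw [← map_pow, D.y3, map_one]
  have y1' : π y ≠ 1 := by
    intro e
    rcases hker y e with e | e
    · exact D.y1 e
    · have := D.y3
      rw [e, pow_succ, pow_two, D.hh, one_mul] at this
      exact D.h1 this
  haveI : Fact (Nat.Prime 3) := ⟨Nat.prime_three⟩
  have oy : orderOf (π y) = 3 := orderOf_eq_prime y3' y1'
  have hC : Subgroup.centralizer (Subgroup.zpowers (π y) : Set (K ⧸ Subgroup.zpowers h)) = Subgroup.zpowers (π y) := by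
    refine le_antisymm (fun q hq => ?_) ?_
    · obtain ⟨g, rfl⟩ := QuotientGroup.mk'_surjective _ q
      have e : π y * π g = π g * π y := Subgroup.mem_centralizer_iff.1 hq _ (Subgroup.mem_zpowers _)
      have e' : π (g * y * g⁻¹ * y⁻¹) = 1 := by
        simp only [map_mul, map_inv, ← hπ, ← e]
        group
      rcases hker _ e' with e'' | e''
      · obtain ⟨i, j, rfl⟩ := D.cent g (mul_inv_eq_iff_eq_mul.1 (mul_inv_eq_one.1 e''))
        exact ⟨i, by simp only [zpow_natCast, ← hπ]; rw [map_mul, map_pow, map_pow, hπh, one_pow, mul_one]⟩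
      · exfalso
        have e3 : g * y * g⁻¹ = h * y := by rw [← e'']; group
        have := congrArg (· ^ 3) e3
        simp only [conj_pow, D.y3, mul_one, mul_inv_cancel] at this
        rw [(show Commute h y from (D.hc y).symm).mul_pow, D.y3, mul_one, pow_succ, pow_two, D.hh, one_mul] at this
        exact D.h1 this.symm
    · rintro _ ⟨i, rfl⟩
      rw [Subgroup.mem_centralizer_iff]
      rintro _ ⟨j, rfl⟩
      exact zpow_mul_comm _ _ _
  have qu : π u * π u = 1 := by rw [← map_mul, D.uu, hπh]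
  have qv : π v * π v = 1 := by rw [← map_mul, D.vv, hπh]
  have qc : π c * π c = 1 := by rw [← map_mul, D.cc, map_one]
  have qcy : π c * π y * (π c)⁻¹ = (π y)⁻¹ := by rw [← map_inv, ← map_inv, ← map_mul, ← map_mul, D.cy]
  have qcu : π c * π u * (π c)⁻¹ = π u := by rw [← map_inv, ← map_mul, ← map_mul, D.cu, map_mul, hπh, mul_one]
  have qcv : π c * π v * (π c)⁻¹ = π v := by rw [← map_inv, ← map_mul, ← map_mul, D.cv, map_mul, hπh, mul_one]
  have quy : π u * (π y * π u * (π y)⁻¹) = π y * π y * π u * (π y)⁻¹ * (π y)⁻¹ := by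
    simpa only [map_mul, map_inv] using congrArg π D.uy
  have qvy : π v * (π y * π v * (π y)⁻¹) = π y * π y * π v * (π y)⁻¹ * (π y)⁻¹ := by
    simpa only [map_mul, map_inv] using congrArg π D.vy
  have main : ∀ (N : Subgroup (K ⧸ Subgroup.zpowers h)) [N.Normal],
      (∀ g : (K ⧸ Subgroup.zpowers h) ⧸ N, (g * g) * (g * g) = 1 → g * g = 1) →
      (∀ n ∈ N, n * π y = π y * n → n = 1) → π (u * v * y) ^ 3 = 1 := by
    intro N _ h4 hfix
    have hin : ∀ {w : K ⧸ Subgroup.zpowers h}, w * w = 1 → π c * w * (π c)⁻¹ = w →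
        w * (π y * w * (π y)⁻¹) = π y * π y * w * (π y)⁻¹ * (π y)⁻¹ → w ∈ N := by
      intro w h1 h2 h3
      set f := QuotientGroup.mk' N
      refine (QuotientGroup.eq_one_iff w).1 (four_collapse h4 (a := f w) (c := f (π c)) (Y := f (π y)) ?_ ?_ ?_ ?_ ?_ ?_)
      · rw [← map_mul, h1, map_one]
      · rw [← map_pow, y3', map_one]
      · rw [← map_mul, qc, map_one]
      · simpa only [map_mul, map_inv] using congrArg f qcy
      · simpa only [map_mul, map_inv] using congrArg f h2
      · simpa only [map_mul, map_inv] using congrArg f h3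
    have hnN : π u * π v ∈ N := mul_mem (hin qu qcu quy) (hin qv qcv qvy)
    let F : N → N := fun g => ⟨(g : _)⁻¹ * (π y * g * (π y)⁻¹),
      mul_mem (inv_mem g.2) (Subgroup.Normal.conj_mem inferInstance _ g.2 _)⟩
    have hF : Function.Injective F := by
      rintro ⟨a, ha⟩ ⟨b, hb⟩ e
      have e' : a⁻¹ * (π y * a * (π y)⁻¹) = b⁻¹ * (π y * b * (π y)⁻¹) := congrArg Subtype.val e
      have h1 : b * a⁻¹ * π y = π y * (b * a⁻¹) := by
        calc b * a⁻¹ * π y = b * (a⁻¹ * (π y * a * (π y)⁻¹)) * π y * a⁻¹ := by group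
          _ = π y * (b * a⁻¹) := by rw [e']; group
      exact Subtype.ext (mul_inv_eq_one.1 (hfix _ (mul_mem hb (inv_mem ha)) h1)).symm
    obtain ⟨⟨g, hg⟩, hgn⟩ := Finite.injective_iff_surjective.1 hF ⟨_, hnN⟩
    have hgn' : g⁻¹ * (π y * g * (π y)⁻¹) = π u * π v := congrArg Subtype.val hgn
    calc π (u * v * y) ^ 3 = (g⁻¹ * π y * g) ^ 3 := by
          rw [map_mul, map_mul, ← hgn']; group
      _ = g⁻¹ * π y ^ 3 * g := by
          rw [pow_succ, pow_two, pow_succ, pow_two]; group
      _ = 1 := by rw [y3', mul_one, inv_mul_cancel]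
  have hfix3 : ∀ n : K ⧸ Subgroup.zpowers h, n * π y = π y * n → n ^ 3 = 1 := by
    intro n hn
    have : n ∈ Subgroup.zpowers (π y) := by
      rw [← hC, Subgroup.mem_centralizer_iff]
      rintro _ ⟨j, rfl⟩
      exact ((show Commute n (π y) from hn).zpow_right j).eq.symm
    obtain ⟨i, rfl⟩ := Subgroup.mem_zpowers_iff.1 this
    rw [← zpow_natCast, ← zpow_mul, mul_comm i, zpow_mul, zpow_natCast, y3', one_zpow]
  rcases Cfsg.Agent.S3331.result (Subgroup.zpowers (π y)) (by rw [Nat.card_zpowers, oy]) hC with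
    ⟨N, hN, -, hcop, hq⟩ | ⟨N, hN, -, h2, ⟨e⟩⟩ | ⟨⟨e⟩⟩
  · haveI := hN
    refine main N ?_ fun n hnN hn => ?_
    · rcases hq with hq | ⟨⟨e⟩⟩
      · intro g hg
        have h3 : g ^ 3 = 1 := hq ▸ pow_card_eq_one'
        rw [pow_succ, pow_two] at h3
        have g1 : g = 1 := by
          calc g = (g * g) * (g * g) * (g * g * g)⁻¹ := by group
            _ = 1 := by rw [hg, h3]; simp
        rw [g1, one_mul]
      · intro g hg
        apply e.injective
        rw [map_mul, map_one]
        exact sym3_no_four _ (by rw [← map_mul, ← map_mul, hg, map_one])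
    · have h3 := hfix3 n hn
      have hd : orderOf n ∣ Nat.card N := Subgroup.orderOf_dvd_natCard N hnN
      exact orderOf_eq_one_iff.1 (Nat.eq_one_of_dvd_coprimes hcop hd (orderOf_dvd_of_pow_eq_one h3))
  · haveI := hN
    refine main N ?_ fun n hnN hn => ?_
    · intro g hg
      apply e.injective
      rw [map_mul, map_one]
      exact alt5_no_four _ (by rw [← map_mul, ← map_mul, hg, map_one])
    · have h3 := hfix3 n hn
      rw [pow_succ, h2 n hnN, one_mul] at h3
      exact h3
  · exfalso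
    have c1 : π c ≠ 1 := by
      intro e
      rw [e, one_mul, inv_one, mul_one] at qcy
      have : π y ^ 2 = 1 := by rw [sq]; nth_rw 2 [qcy]; exact mul_inv_cancel _
      rw [pow_succ, this, one_mul] at y3'
      exact y1' y3'
    have u1 : π u ≠ 1 := fun e => by
      rcases hker u e with e | e
      · exact D.h1 (by rw [← D.uu, e, one_mul])
      · exact D.h1 (by rw [← D.uu, e, D.hh])
    obtain ⟨g, hg⟩ := psl27_invol (p := e (π u)) (q := e (π c)) (by rw [← map_mul, qu, map_one])
      ((map_ne_one_iff e e.injective).2 u1) (by rw [← map_mul, qc, map_one]) ((map_ne_one_iff e e.injective).2 c1)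
    obtain ⟨g₀, hg₀⟩ := QuotientGroup.mk'_surjective _ (e.symm g)
    have heq : π u = π (g₀ * c * g₀⁻¹) := by
      apply e.injective
      simp only [map_mul, map_inv, ← hπ] at hg₀ ⊢
      rw [hg, hg₀, e.apply_symm_apply]
    have hz : π (u⁻¹ * (g₀ * c * g₀⁻¹)) = 1 := by rw [map_mul, map_inv, heq, inv_mul_cancel]
    have hsq : ∀ w : K, w = g₀ * c * g₀⁻¹ → w * w = 1 := fun w hw => by
      calc w * w = g₀ * (c * c) * g₀⁻¹ := by rw [hw]; group
        _ = 1 := by rw [D.cc, mul_one, mul_inv_cancel]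
    rcases hker _ hz with hz | hz
    · exact D.h1 (by rw [← D.uu]; exact hsq u (inv_mul_eq_one.1 hz))
    · have := hsq (u * h) (by rw [← hz]; group)
      rw [mul_assoc, ← mul_assoc h u h, ← D.hc u, mul_assoc u h h, D.hh, mul_one, D.uu] at this
      exact D.h1 this

end

end CfsgM12Amalgam
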