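import Cfsg.Agent.Lib.M12Amalgam.Relations
import Cfsg.Agent.Lib.M12Amalgam.CertA.Main
import Cfsg.Agent.Lib.M12Amalgam.CertM.Main
import Cfsg.Agent.Lib.M12Amalgam.CertL.Main

/-!
Two groups of the shape 3^2:GL(2,3) with a common Borel subgroup: comparison with a group in which the relations hold.
-/

set_option autoImplicit false
set_option maxRecDepth 100000

namespace CfsgM12Amalgam

open CfsgLib.CosetEnum

theorem map_wordsSub {M N : Type*} [Group M] [Group N] (f : M →* N) (τ : ℕ → M) (W : List (List ℕ)) :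
    (Subgroup.closure {g | ∃ w ∈ W, (w.map τ).prod = g}).map f =
      Subgroup.closure {g | ∃ w ∈ W, (w.map (f ∘ τ)).prod = g} := by
  rw [MonoidHom.map_closure]
  congr 1
  ext g
  constructor
  · rintro ⟨a, ⟨w, hw, rfl⟩, rfl⟩
    exact ⟨w, hw, by rw [map_list_prod, List.map_map]⟩
  · rintro ⟨w, hw, rfl⟩
    exact ⟨_, ⟨w, hw, rfl⟩, by rw [map_list_prod, List.map_map]⟩

/-- The bound of a sheet in a finite group of any universe. -/
theorem sheet_bound (C : Sheet) {M : Type*} [Group M] [Finite M] (τ : ℕ → M) (hτ : ∀ x, τ x * τ x = 1)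
    (hτk : τ C.D.k = 1) (hrel : ∀ w ∈ C.rels, (w.map τ).prod = 1)
    (hle : Subgroup.closure {g | ∃ w ∈ C.hw, (w.map τ).prod = g} ≤ Subgroup.closure (τ '' Set.Iio C.D.k)) {N : ℕ}
    (hT : Nat.card (Subgroup.closure {g | ∃ w ∈ C.hw, (w.map τ).prod = g}) ≤ N) :
    Nat.card (Subgroup.closure (τ '' Set.Iio C.D.k)) ≤ C.T.n * N := by
  obtain ⟨n, ⟨e⟩⟩ := Finite.exists_equiv_fin M
  let f : M →* Equiv.Perm (Fin n) := (Equiv.permCongrHom e).toMonoidHom.comp (MulAction.toPermHom M M)
  have hf : Function.Injective f :=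
    (Equiv.permCongrHom e).injective.comp MulAction.toPerm_injective
  have hcl : (Subgroup.closure (τ '' Set.Iio C.D.k)).map f = Subgroup.closure ((f ∘ τ) '' Set.Iio C.D.k) := by
    rw [MonoidHom.map_closure, ← Set.image_comp]
  have hW := map_wordsSub f τ C.hw
  have h := C.card_le (f ∘ τ) (fun x => by simp only [Function.comp_apply, ← map_mul, hτ, map_one])
    (by simp only [Function.comp_apply, hτk, map_one])
    (fun w hw => by rw [← List.map_map, ← map_list_prod, hrel w hw, map_one])
    (by show Subgroup.closure _ ≤ _; rw [← hW, ← hcl]; exact Subgroup.map_mono hle) (N := N)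
    ⟨inferInstance, by
      show Nat.card (Subgroup.closure _) ≤ N
      rw [← hW, ← Nat.card_congr (Subgroup.equivMapOfInjective _ f hf).toEquiv]
      exact hT⟩
  rw [← hcl, ← Nat.card_congr (Subgroup.equivMapOfInjective _ f hf).toEquiv] at h
  exact h.2

theorem certA_rels_ok : (CertA.rels.all fun w => okA w && code w == code []) = true := by decide +kernel

/-- A relation of one of the two groups. -/
def local_rel (r : List ℕ) : Bool := (okA r && code r == code []) || (okB r && code (r.map sw) == code [])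

/-- The word of the cube. -/
def eraw : List ℕ := wU ++ wV ++ wY ++ (wU ++ wV ++ wY) ++ (wU ++ wV ++ wY)

theorem certM_rels_ok : (CertM.rels.all fun w => local_rel w || red w == red ([2, 1] ++ eraw ++ [1, 2])) = true := by decide +kernel

theorem certL_rels_ok : (CertL.rels.all fun w => local_rel w || red w == red ([2, 1] ++ eraw ++ [1, 2] ++ [0])) = true := by decide +kernel

theorem certM_shape : CertM.sheet.D.k = 6 ∧ CertM.sheet.T.n = 220 ∧ CertM.sheet.hw = [[0], [1], [2], [3], [4]] :=
  ⟨rfl, rfl, rfl⟩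

theorem certL_shape : CertL.sheet.D.k = 6 ∧ CertL.sheet.T.n = 13 ∧ CertL.sheet.hw = [[0], [1], [2], [3], [4]] :=
  ⟨rfl, rfl, rfl⟩

theorem certA_shape : CertA.sheet.D.k = 5 ∧ CertA.sheet.T.n = 432 ∧ CertA.sheet.hw = [] :=
  ⟨rfl, rfl, rfl⟩

/-- The group of the first five letters has order at most 432. -/
theorem first_card_le {M : Type*} [Group M] [Finite M] (σ : ℕ → M) (hσ : ∀ x, σ x * σ x = 1)
    (hrel : ∀ w ∈ CertA.rels, (w.map σ).prod = 1) : Nat.card (Subgroup.closure (σ '' Set.Iio 5)) ≤ 432 := by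
  set σ' : ℕ → M := fun l => if l < 5 then σ l else 1 with hσ'
  obtain ⟨hk, hn, hw⟩ := certA_shape
  have him : σ '' Set.Iio 5 = σ' '' Set.Iio 5 := Set.image_congr fun l hl => (if_pos hl).symm
  have h := sheet_bound CertA.sheet σ' (fun l => by
      simp only [hσ']; split_ifs
      · exact hσ l
      · exact one_mul 1)
    (by rw [hk]; rfl) (fun w hw => by
      have hm : ∀ l ∈ w, σ' l = σ l := fun l hl => if_pos (by
        have h := List.all_eq_true.1 certA_rels_ok w hw
        rw [Bool.and_eq_true] at h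
        simpa [Nat.blt, Nat.ble_eq, Nat.succ_le_iff] using List.all_eq_true.1 h.1 l hl)
      rw [List.map_congr_left hm]
      exact hrel w hw)
    (by rw [hw]; simp) (N := 1) (by rw [hw]; simp)
  rw [hk, hn, mul_one] at h
  rw [him]
  exact h

/-- The image of the first five letters in a model has order 432. -/
theorem first_card {M : Type*} [Group M] [Finite M] (σ : ℕ → M) (hσ : ∀ x, σ x * σ x = 1)
    (hrel : ∀ w ∈ CertA.rels, (w.map σ).prod = 1) {W : List (List ℕ)} (hW : W.all okA = true) (hlen : W.length = 432)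
    (hinj : ∀ u ∈ W, ∀ w ∈ W, val σ u = val σ w → u = w) (hnd : W.Nodup) :
    Nat.card (Subgroup.closure (σ '' Set.Iio 5)) = 432 := by
  refine le_antisymm (first_card_le σ hσ hrel) ?_
  let f : Fin W.length → Subgroup.closure (σ '' Set.Iio 5) := fun i => ⟨val σ W[i], Subgroup.list_prod_mem _ fun a ha => by
    obtain ⟨l, hl, rfl⟩ := List.mem_map.1 ha
    refine Subgroup.subset_closure ⟨l, ?_, rfl⟩
    have h := List.all_eq_true.1 (List.all_eq_true.1 hW _ (List.getElem_mem i.2)) l hl
    simpa [Nat.blt, Nat.ble_eq, Nat.succ_le_iff] using h⟩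
  have hf : Function.Injective f := fun i j e => Fin.ext ((hnd.getElem_inj_iff (hi := by simp) (hj := by simp)).1
    (by simpa using hinj _ (List.getElem_mem i.2) _ (List.getElem_mem j.2) (congrArg Subtype.val e)))
  have h := Nat.card_le_card_of_injective f hf
  rw [Nat.card_fin, hlen] at h
  exact h

namespace Amalg

variable {G : Type*} [Group G] [Finite G] (H : Amalg G)

omit [Finite G] in
theorem local_rel_ok {r : List ℕ} (h : local_rel r = true) : val H.τ r = 1 := by
  simp only [local_rel, Bool.or_eq_true, Bool.and_eq_true, beq_iff_eq] at h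
  rcases h with ⟨h1, h2⟩ | ⟨h1, h2⟩
  · exact H.eqA (w := []) h1 rfl h2
  · exact H.eqB (w := []) h1 rfl h2

omit [Finite G] in
theorem relsA_ok : ∀ w ∈ CertA.rels, val H.τ w = 1 := fun w hw => by
  have h := List.all_eq_true.1 certA_rels_ok w hw
  rw [Bool.and_eq_true, beq_iff_eq] at h
  exact H.eqA (w := []) h.1 rfl h.2

omit [Finite G] in
theorem relsM_ok (e : val H.τ eraw = 1) : ∀ w ∈ CertM.rels, val H.τ w = 1 := fun w hw => by
  have h := List.all_eq_true.1 certM_rels_ok w hw
  rw [Bool.or_eq_true, beq_iff_eq] at h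
  refine h.elim H.local_rel_ok fun h => (H.eqRed h).trans ?_
  rw [val_append, val_append, e, mul_one, ← val_append]
  exact H.eqA (w := []) (by decide) (by decide) (by decide +kernel)

omit [Finite G] in
theorem relsL_ok (e : val H.τ (eraw ++ [0]) = 1) : ∀ w ∈ CertL.rels, val H.τ w = 1 := fun w hw => by
  have h := List.all_eq_true.1 certL_rels_ok w hw
  rw [Bool.or_eq_true, beq_iff_eq] at h
  refine h.elim H.local_rel_ok fun h => (H.eqRed h).trans ?_
  have e' : val H.τ eraw = (val H.τ [0])⁻¹ := by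
    rw [val_append] at e
    exact eq_inv_of_mul_eq_one_left e
  rw [val_append, val_append, val_append, e', ← val_rev H.τ H.τ_sq, ← val_append, ← val_append, ← val_append]
  exact H.eqA (w := []) (by decide) (by decide) (by decide +kernel)

/-- The six letters generate. -/
theorem closure_top : Subgroup.closure (H.τ '' Set.Iio 6) = ⊤ := by
  set C := Subgroup.closure (H.τ '' Set.Iio 6)
  have hm : ∀ w : List ℕ, (∀ l ∈ w, l < 6) → val H.τ w ∈ C := fun w hw => Subgroup.list_prod_mem _ fun a ha => by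
    obtain ⟨l, hl, rfl⟩ := List.mem_map.1 ha
    exact Subgroup.subset_closure ⟨l, hw l hl, rfl⟩
  have hA : H.A ≤ C := fun g hg => by
    obtain ⟨w, -, hok, rfl⟩ := H.coverA hg
    refine hm w fun l hl => ?_
    have h := List.all_eq_true.1 hok l hl
    simp [Nat.blt, Nat.ble_eq, Nat.succ_le_iff] at h
    omega
  have hok := wa_ok
  simp only [Bool.and_eq_true, beq_iff_eq, List.all_eq_true] at hok
  obtain ⟨⟨hinc, hall⟩, hlen⟩ := hok
  have hb6 : ∀ w ∈ WA, ∀ l ∈ w.map sw, l < 6 := fun w hw l hl => by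
    obtain ⟨a, ha, rfl⟩ := List.mem_map.1 hl
    have h := List.all_eq_true.1 (hall w hw) a ha
    simp [Nat.blt, Nat.ble_eq, Nat.succ_le_iff] at h
    interval_cases a <;> decide
  let f : Fin WA.length → H.B := fun i => ⟨val (letters H.k H.h H.y H.x H.d H.b) WA[i],
    H.sB.val_mem H.b (hall _ (List.getElem_mem i.2))⟩
  have hf : Function.Injective f := by
    intro i j e
    have e' := H.sB.code_eq H.b (hall _ (List.getElem_mem i.2)) (hall _ (List.getElem_mem j.2))
      (congrArg Subtype.val e)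
    refine Fin.ext ((incr_nodup hinc).getElem_inj_iff (hi := by simp) (hj := by simp) |>.1 ?_)
    simpa using e'
  have hbij : Function.Bijective f :=
    (Nat.bijective_iff_injective_and_card f).2 ⟨hf, by rw [Nat.card_fin, hlen, H.cardB]⟩
  have hB : H.B ≤ C := fun g hg => by
    obtain ⟨i, hi⟩ := hbij.2 ⟨g, hg⟩
    have e : val (letters H.k H.h H.y H.x H.d H.b) WA[i] = g := congrArg Subtype.val hi
    have e2 : val H.τ (WA[i].map sw) = g := by
      rw [← e]
      simp only [val, List.map_map]
      refine congrArg List.prod (List.map_congr_left fun l hl => ?_)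
      have h := List.all_eq_true.1 (hall _ (List.getElem_mem i.2)) l hl
      simp [Nat.blt, Nat.ble_eq, Nat.succ_le_iff] at h
      interval_cases l <;> rfl
    exact e2 ▸ hm _ (hb6 _ (List.getElem_mem i.2))
  rw [eq_top_iff, ← H.gen]
  exact sup_le hA hB

/-- A model in which the relations hold maps onto the group. -/
theorem exists_onto {M : Type*} [Group M] [Finite M] (μ : ℕ → M) (hμ : ∀ x, μ x * μ x = 1) (hμ6 : μ 6 = 1)
    (C : Sheet) {n : ℕ} (hC : C.D.k = 6 ∧ C.T.n = n ∧ C.hw = [[0], [1], [2], [3], [4]])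
    (hrel : ∀ w ∈ C.rels, val H.τ w = 1) (hrelM : ∀ w ∈ C.rels, val μ w = 1)
    (hrelA : ∀ w ∈ CertA.rels, val μ w = 1) (hgen : Subgroup.closure (μ '' Set.Iio 6) = ⊤)
    (hcard : n * 432 ≤ Nat.card M) : ∃ f : M →* G, Function.Surjective f := by
  obtain ⟨hk, hn, hw⟩ := hC
  let σ : ℕ → G × M := fun l => (H.τ l, μ l)
  have hσ : ∀ x, σ x * σ x = 1 := fun x => Prod.ext (H.τ_sq x) (hμ x)
  have hval : ∀ w : List ℕ, (w.map σ).prod = (val H.τ w, val μ w) := by
    intro w
    induction w with
    | nil => rfl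
    | cons a l ih => simp only [List.map_cons, List.prod_cons, ih, σ, val]; rfl
  have hW : Subgroup.closure {g | ∃ w ∈ C.hw, (w.map σ).prod = g} = Subgroup.closure (σ '' Set.Iio 5) := by
    congr 1
    ext g
    rw [hw]
    constructor
    · rintro ⟨w, hw', rfl⟩
      simp only [List.mem_cons, List.not_mem_nil, or_false] at hw'
      rcases hw' with rfl | rfl | rfl | rfl | rfl
      · exact ⟨0, by simp, by simp⟩
      · exact ⟨1, by simp, by simp⟩
      · exact ⟨2, by simp, by simp⟩
      · exact ⟨3, by simp, by simp⟩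
      · exact ⟨4, by simp, by simp⟩
    · rintro ⟨l, hl, rfl⟩
      refine ⟨[l], ?_, by simp⟩
      simp only [Set.mem_Iio] at hl
      interval_cases l <;> simp
  set K := Subgroup.closure (σ '' Set.Iio C.D.k)
  have hK : Nat.card K ≤ n * 432 := by
    rw [← hn]
    refine sheet_bound C σ hσ (by rw [hk]; exact Prod.ext (H.τ_high le_rfl) hμ6)
      (fun w hw => by rw [hval, hrel w hw, hrelM w hw]; rfl) ?_ ?_
    · rw [hW, hk]
      exact Subgroup.closure_mono (Set.image_mono (Set.Iio_subset_Iio (by norm_num)))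
    · rw [hW]
      exact first_card_le σ hσ fun w hw => by rw [hval, H.relsA_ok w hw, hrelA w hw]; rfl
  let p₁ : K →* G := (MonoidHom.fst G M).comp K.subtype
  let p₂ : K →* M := (MonoidHom.snd G M).comp K.subtype
  have hmem : ∀ l < 6, σ l ∈ K := fun l hl => Subgroup.subset_closure ⟨l, by rw [hk]; exact hl, rfl⟩
  have s1 : Function.Surjective p₁ := by
    rw [← MonoidHom.range_eq_top, eq_top_iff, ← H.closure_top, Subgroup.closure_le]
    rintro _ ⟨l, hl, rfl⟩
    exact ⟨⟨σ l, hmem l hl⟩, rfl⟩
  have s2 : Function.Surjective p₂ := by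
    rw [← MonoidHom.range_eq_top, eq_top_iff, ← hgen, Subgroup.closure_le]
    rintro _ ⟨l, hl, rfl⟩
    exact ⟨⟨σ l, hmem l hl⟩, rfl⟩
  have b2 : Function.Bijective p₂ := (Nat.bijective_iff_surjective_and_card p₂).2
    ⟨s2, le_antisymm (hK.trans hcard) (Nat.card_le_card_of_surjective _ s2)⟩
  exact ⟨p₁.comp (MulEquiv.ofBijective p₂ b2).symm.toMonoidHom, s1.comp (MulEquiv.ofBijective p₂ b2).symm.surjective⟩

end Amalg

end CfsgM12Amalgam
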