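/-
Word lists for the amalgam of two groups 3^2:GL(2,3).
-/
import Mathlib

set_option autoImplicit false

namespace CfsgM12Amalgam

/-- Words for the elements of the first group, ordered by their points of the affine plane. -/
def WA : List (List ℕ) := [
  [3,2,3], [1,2,3], [0,2,3,1], [1,3,2,3], [2,3], [2,3,1,2], [1,2,3,2], [1,2,3,1], [0,2,3], [2,3,2], [2,3,1],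
  [0,1,2,3], [], [0,1], [1,2], [0,2], [2,1], [0,1,2,1], [1,3], [0,1,3,1], [0,1,3,2], [1,3,1,2], [1,3,2,1],
  [2,1,3], [3,1], [0,3], [3,2], [0,3,1,2], [0,3,2,1], [3,1,2,1], [1], [0], [1,2,1], [0,2,1], [2], [0,1,2], [3],
  [0,3,1], [3,2,1], [1,2,1,3], [0,3,2], [3,1,2], [1,3,1], [0,1,3], [2,1,3,2], [0,2,1,3], [1,3,2], [2,1,3,1],
  [0,4,0,2,3], [0,1,4,2,3,2], [0,1,4,2,3,1], [0,1,4,0,2,3], [0,4,2,3,2], [0,4,2,3,1], [0,4,0,2,3,1],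
  [0,3,4,2,3], [0,1,4,2,3], [0,3,1,4,2,3], [0,1,3,4,2,3], [0,4,2,3], [0,3,4,0], [0,3,1,4], [0,3,4,2],
  [0,3,1,4,0,2], [0,3,1,4,2,1], [0,3,4,0,2,1], [0,1,4,0], [0,4], [0,4,0,2], [0,1,4,2], [0,1,4,0,2,1],
  [0,4,2,1], [0,1,3,1,4,0], [0,1,3,4], [0,1,3,1,4,2], [0,1,3,4,0,2], [0,1,3,4,2,1], [0,4,2,1,3], [0,1,3,4,0],
  [0,1,3,1,4], [0,4,0,2,1,3], [0,3,4,2,1,3], [0,1,3,4,2], [0,4,2,1,3,1], [0,4,0], [0,1,4], [0,4,0,2,1],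
  [0,1,4,2,1], [0,1,4,0,2], [0,4,2], [0,3,1,4,0], [0,3,4], [0,3,4,2,1], [0,1,4,2,1,3], [0,3,1,4,2],
  [0,3,4,0,2], [1,4,0,2,3], [4,2,3,1], [4,2,3,2], [4,0,2,3], [1,4,2,3,1], [1,4,2,3,2], [3,1,4,2,3], [4,2,3],
  [1,3,4,2,3], [4,0,2,3,1], [1,4,2,3], [3,4,2,3], [1,3,4,0], [1,3,1,4], [4,2,1,3,1], [1,3,4,2], [4,0,2,1,3],
  [3,4,2,1,3], [3,1,4,0], [3,4], [3,1,4,2], [3,4,0,2], [1,4,2,1,3], [3,4,2,1], [4,0], [1,4], [1,4,0,2], [4,2],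
  [4,0,2,1], [1,4,2,1], [3,4,0], [3,1,4], [3,1,4,2,1], [3,4,0,2,1], [3,1,4,0,2], [3,4,2], [1,3,1,4,0], [1,3,4],
  [4,2,1,3], [1,3,4,2,1], [1,3,1,4,2], [1,3,4,0,2], [1,4,0], [4], [1,4,0,2,1], [4,2,1], [4,0,2], [1,4,2],
  [0,4,2,4,0], [1,4,2,4,0], [1,4,2,4,2], [0,4,2,4,2], [1,4,2,1,4], [0,4,2,1,4], [0,3,2,4,0], [0,3,2,1,4,2,1],
  [0,3,2,4,2], [0,3,2,4,0,2,1], [0,3,2,1,4], [1,4,2,1,3,4], [1,3,2,4,0], [1,3,2,1,4,2,1], [0,3,2,4,2,1,3],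
  [1,3,2,4,2], [1,3,2,1,4], [0,4,2,1,3,4], [1,3,2,3,4,0], [0,4,2,3,4,0], [1,4,2,3,1,4,0], [2,3,2,4],
  [1,4,2,3,4], [0,4,2,3,1,4], [2,3,2,4,0], [0,4,2,3,1,4,0], [1,4,2,3,4,0], [1,3,2,3,4], [1,4,2,3,1,4],
  [0,4,2,3,4], [0,4,2,1,4,0], [0,2,1,4,2,4], [2,4,2,4], [0,1,2,4,2,4], [1,4,2,4], [0,4,2,4], [1,3,2,1,4,0],
  [1,3,2,1,4,2], [1,3,2,4,0,2], [1,3,2,4,2,1], [1,3,2,4], [0,4,2,1,3,1,4], [0,3,2,1,4,0], [0,3,2,1,4,2],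
  [0,3,2,4,2,1], [0,3,2,4,0,2], [0,3,2,4], [3,1,4,0,2,4], [0,1,2,4,2,3,2], [1,3,1,4,2,4,0], [0,1,2,4,0,2,3],
  [0,1,2,4,2,3,1], [4,0,2,1,3,4], [0,1,3,4,2,1,4], [0,1,2,4,0], [4,0,2,4,0], [2,4,0,2,4], [0,1,2,4,2],
  [4,0,2,1,4], [0,1,2,1,4], [3,1,2,4,0], [0,2,4,2,3,2,4], [3,1,2,4,2], [0,1,2,4,2,1,3], [0,3,4,0,2,1,4],
  [3,1,2,1,4], [0,1,2,3,4,0], [0,2,3,4,0,2,4], [2,3,1,2,4,0,2], [4,0,2,3,4], [0,1,2,3,4,2], [2,3,1,2,4],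
  [2,3,1,2,4,0], [0,1,2,3,4,0,2], [4,0,2,3,4,0], [2,3,1,2,4,2], [0,4,2,3,2,4], [0,1,2,3,4], [3,1,2,1,4,0],
  [3,1,2,1,4,2], [2,4,0,2,3,4], [3,1,2,4,0,2], [0,3,4,0,2,4], [3,1,2,4], [0,1,2,1,4,0], [0,1,2,1,4,2],
  [0,1,2,4,0,2], [0,1,2,4,2,1], [4,0,2,4], [0,1,2,4], [0,2,1,3,4,2,4], [0,1,2,1,4,2,3], [3,1,2,4,2,3],
  [0,1,2,4,2,3], [1,3,1,4,2,4], [0,1,3,4,2,4], [2,1,4,2,3,1], [2,4,2,3,2], [2,4,0,2,3], [2,4,2,3,1],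
  [2,1,4,0,2,3], [3,4,2,1,4], [2,1,3,1,4,0], [2,1,3,4,2,1], [2,1,3,1,4,2], [2,4,2,1,3], [2,1,3,4],
  [2,1,3,4,0,2], [2,4,0], [2,1,4,2,1], [2,4,0,2,1], [2,4,2], [2,1,4,0,2], [2,1,4], [2,3,4,0], [2,3,1,4,0,2],
  [2,3,4,0,2,1], [2,3,1,4,2,1], [2,3,1,4], [2,3,4,2], [2,3,1,4,0], [2,1,4,2,1,3], [2,3,4,0,2], [2,3,1,4,2],
  [2,3,4], [2,3,4,2,1], [2,1,3,4,0], [2,1,3,4,2], [2,4,0,2,1,3], [2,4,2,1,3,1], [2,1,3,1,4], [1,3,4,0,2,4],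
  [2,1,4,2,3], [2,1,3,4,2,3], [2,4,0,2,3,1], [2,4,2,3], [0,3,1,4,2,4], [3,4,2,4], [2,1,4,0], [2,1,4,2],
  [2,4,0,2], [2,4,2,1], [0,1,4,0,2,4], [2,4], [0,1,4,2,4,0], [4,2,4,0], [4,2,1,4], [0,1,4,2,1,4], [4,2,4,2],
  [0,1,4,2,4,2], [0,1,3,2,4,0], [2,1,3,2,4,2,1], [2,1,3,2,4], [4,2,1,3,4], [0,1,3,2,4,2], [3,2,4,2,1,3],
  [3,2,4,0], [3,2,1,4,2,1], [3,2,1,4], [3,2,1,4,0,2], [3,2,4,0,2,1], [3,2,4,2], [2,1,4,2,4], [4,2,1,4,0],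
  [4,2,4], [0,1,4,2,4], [1,2,4,2,4], [0,2,4,2,4], [3,2,1,4,0], [3,2,1,4,2], [3,2,4], [0,3,1,4,0,2,4],
  [3,2,4,0,2], [3,2,4,2,1], [2,1,3,2,4,0], [2,1,3,2,4,2], [0,1,3,2,4], [4,2,1,3,1,4], [0,1,3,2,4,2,1],
  [0,1,3,2,4,0,2], [3,2,3,4,0], [0,1,4,2,3,4,0], [4,2,3,1,4,0], [1,2,3,2,4], [4,2,3,4], [4,2,3,1,4,2],
  [1,2,3,2,4,0], [2,3,1,4,0,2,4], [4,2,3,4,0], [3,2,3,4], [4,2,3,1,4], [0,1,4,2,3,4], [0,2,4,2,3,2],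
  [3,1,4,2,4,0], [3,1,4,2,1,4], [0,3,4,2,1,4], [0,2,4,0,2,3], [0,2,4,2,3,1], [0,2,4,0], [0,2,1,4,2,1],
  [0,2,1,4,0,2], [0,2,1,4], [0,2,4,0,2,1], [0,2,4,2], [1,3,1,2,4,0], [0,2,1,3,4,2,1], [0,2,1,3,4,0,2],
  [0,2,1,3,4], [1,3,1,2,4,2], [0,2,4,2,1,3], [0,2,1,3,4,0], [0,2,1,3,4,2], [0,1,3,4,0,2,4], [1,3,1,2,4],
  [0,2,4,0,2,1,3], [0,2,4,2,1,3,1], [0,2,1,4,0], [0,2,1,4,2], [1,4,0,2,4], [0,2,4], [0,2,4,0,2], [0,2,4,2,1],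
  [0,2,1,3,4,2,3], [0,2,1,4,2,3], [3,1,4,2,4], [0,3,4,2,4], [0,2,4,0,2,3,1], [0,2,4,2,3], [0,2,3,4,0],
  [0,2,3,4,0,2,1], [0,2,3,1,4,0,2], [1,4,0,2,3,4], [0,2,3,4,2], [0,2,3,1,4], [0,2,3,1,4,0], [0,2,3,4,0,2],
  [0,2,1,4,2,1,3], [0,2,3,1,4,2], [0,2,3,4,2,1], [0,2,3,4], [1,2,1,4,2,3,1], [1,2,4,2,3,2], [0,4,0,2,1,3,4],
  [1,3,4,2,1,4], [1,2,4,0,2,3], [1,2,4,2,3,1], [0,3,1,2,4,0], [2,4,2,3,2,4], [1,2,1,3,4], [3,4,0,2,1,4],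
  [0,3,1,2,4,2], [1,2,4,2,1,3], [1,2,4,0], [0,4,0,2,4,0], [0,4,0,2,1,4], [1,2,1,4], [0,2,4,0,2,4], [1,2,4,2],
  [1,2,1,3,4,0], [1,2,1,3,4,2], [0,3,1,2,4], [3,4,0,2,4], [0,2,4,0,2,3,4], [0,3,1,2,4,0,2], [1,2,1,4,2,3],
  [2,1,3,4,2,4], [0,1,3,1,4,2,4], [1,3,4,2,4], [0,3,1,2,4,2,3], [1,2,4,2,3], [1,2,1,4,0], [1,2,1,4,2],
  [0,4,0,2,4], [1,2,4], [1,2,4,0,2], [1,2,4,2,1], [1,2,3,4,0], [1,2,3,1,4,0,2], [2,3,4,0,2,4], [0,4,0,2,3,4],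
  [1,2,3,1,4], [1,2,3,4,2], [1,2,3,1,4,0], [0,4,0,2,3,4,0], [1,2,3,4,0,2], [1,2,3,1,4,2], [1,2,3,4],
  [4,2,3,2,4]]

/-- Words for the elements of the first group, ordered by their images of three points in the Mathieu group. -/
def WM : List (List ℕ) := [
  [], [2,1], [0,1], [0,1,2,1], [1,2], [0,2], [0,2,4,2,1,3,1], [1,3,1,2,4], [0,2,1,3,4,0], [0,1,3,4,0,2,4],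
  [0,2,1,3,4,2], [0,2,4,0,2,1,3], [4,2,4], [2,1,4,2,4], [0,1,4,2,4], [4,2,1,4,0], [1,2,4,2,4], [0,2,4,2,4],
  [2,3,1,2,4,0,2], [4,0,2,3,4], [2,3,1,2,4], [0,1,2,3,4,2], [0,1,2,3,4,0], [0,2,3,4,0,2,4], [0,3,1,2,4,0,2],
  [3,4,0,2,4], [0,3,1,2,4], [1,2,1,3,4,2], [1,2,1,3,4,0], [0,2,4,0,2,3,4], [2,3,1,4,0,2], [2,3,4,2], [2,3,1,4],
  [2,3,1,4,2,1], [2,3,4,0,2,1], [2,3,4,0], [0,3,1,4,0,2], [0,3,4,0], [0,3,1,4], [0,3,1,4,2,1], [0,3,4,0,2,1],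
  [0,3,4,2], [4,2,1,3,1], [1,3,1,4], [3,4,2,1,3], [1,3,4,0], [4,0,2,1,3], [1,3,4,2], [1], [2], [0], [0,1,2],
  [1,2,1], [0,2,1], [3,1,2,4,0,2], [3,1,2,4], [2,4,0,2,3,4], [0,3,4,0,2,4], [3,1,2,1,4,0], [3,1,2,1,4,2],
  [1,4,2,4], [2,4,2,4], [0,4,2,4], [0,1,2,4,2,4], [0,4,2,1,4,0], [0,2,1,4,2,4], [0,4,2,1,3,1], [0,1,3,4,0],
  [0,1,3,1,4], [0,1,3,4,2], [0,4,0,2,1,3], [0,3,4,2,1,3], [2,4,2,1,3,1], [1,3,4,0,2,4], [2,1,3,1,4],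
  [2,4,0,2,1,3], [2,1,3,4,2], [2,1,3,4,0], [3,1,4,0,2], [3,1,4], [3,4,2], [3,4,0], [3,4,0,2,1], [3,1,4,2,1],
  [0,2,3,1,4,0,2], [1,4,0,2,3,4], [0,2,3,1,4], [0,2,3,4,0], [0,2,3,4,2], [0,2,3,4,0,2,1], [1,2,3,1,4,0,2],
  [1,2,3,4,2], [1,2,3,1,4], [2,3,4,0,2,4], [0,4,0,2,3,4], [1,2,3,4,0], [0,2,4,2,1,3], [0,2,1,3,4],
  [1,3,1,2,4,0], [0,2,1,3,4,0,2], [0,2,1,3,4,2,1], [1,3,1,2,4,2], [0,1,2,4,2,1,3], [3,1,2,1,4], [3,1,2,4,2],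
  [0,3,4,0,2,1,4], [3,1,2,4,0], [0,2,4,2,3,2,4], [0,4,2,3], [0,1,4,2,3], [0,3,1,4,2,3], [0,1,3,4,2,3],
  [0,4,0,2,3,1], [0,3,4,2,3], [0,4,0,2,4,0], [1,2,4,2], [1,2,1,4], [0,4,0,2,1,4], [1,2,4,0], [0,2,4,0,2,4],
  [2,3,2], [1,2,3,2], [2,3,1], [0,1,2,3], [1,2,3,1], [0,2,3], [3,2,4,0], [3,2,1,4], [3,2,1,4,2,1],
  [3,2,1,4,0,2], [3,2,4,0,2,1], [3,2,4,2], [2,4,2], [2,1,4,2,1], [2,1,4], [2,1,4,0,2], [2,4,0,2,1], [2,4,0],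
  [1,3,2,4,0], [1,3,2,1,4], [0,3,2,4,2,1,3], [0,4,2,1,3,4], [1,3,2,4,2], [1,3,2,1,4,2,1], [4,2,1,4],
  [0,1,4,2,4,0], [0,1,4,2,1,4], [4,2,4,0], [4,2,4,2], [0,1,4,2,4,2], [1,4,2,1,4], [1,4,2,4,2], [0,4,2,1,4],
  [0,4,2,4,2], [0,4,2,4,0], [1,4,2,4,0], [0,4,2,3,1], [0,1,4,2,3,1], [0,1,4,0,2,3], [0,4,2,3,2], [0,4,0,2,3],
  [0,1,4,2,3,2], [3,1,4,2,4,0], [0,2,4,2,3,1], [3,1,4,2,1,4], [0,3,4,2,1,4], [0,2,4,2,3,2], [0,2,4,0,2,3],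
  [1,4,2,3,1], [4,2,3,1], [1,4,2,3,2], [4,0,2,3], [4,2,3,2], [1,4,0,2,3], [1,2,1,4,2,3,1], [1,2,4,2,3,1],
  [1,3,4,2,1,4], [1,2,4,2,3,2], [0,4,0,2,1,3,4], [1,2,4,0,2,3], [0,1,2,4,2,3,1], [1,3,1,4,2,4,0],
  [4,0,2,1,3,4], [0,1,2,4,0,2,3], [0,1,3,4,2,1,4], [0,1,2,4,2,3,2], [2,4,2,3,1], [2,1,4,2,3,1], [3,4,2,1,4],
  [2,1,4,0,2,3], [2,4,0,2,3], [2,4,2,3,2], [4,0,2,3,4,0], [2,3,1,2,4,2], [0,1,2,3,4], [0,4,2,3,2,4],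
  [2,3,1,2,4,0], [0,1,2,3,4,0,2], [0,4,2,1,3], [0,1,3,1,4,0], [0,1,3,4], [0,1,3,4,2,1], [0,1,3,1,4,2],
  [0,1,3,4,0,2], [1,2,1,4,2], [1,2,4,2,1], [1,2,4], [0,4,0,2,4], [1,2,1,4,0], [1,2,4,0,2], [0,2,1,4,2,3],
  [0,2,4,2,3], [3,1,4,2,4], [0,3,4,2,4], [0,2,1,3,4,2,3], [0,2,4,0,2,3,1], [2,1,3,2,4,0], [4,2,1,3,1,4],
  [0,1,3,2,4], [2,1,3,2,4,2], [0,1,3,2,4,2,1], [0,1,3,2,4,0,2], [2,3,2,4,0], [1,4,2,3,1,4], [1,3,2,3,4],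
  [0,4,2,3,4], [0,4,2,3,1,4,0], [1,4,2,3,4,0], [1,4,2,1], [4,2], [1,4], [4,0], [4,0,2,1], [1,4,0,2], [0,3,2,1],
  [3,2], [3,1], [0,3], [3,1,2,1], [0,3,1,2], [1,2,4,2,1,3], [3,4,0,2,1,4], [1,2,1,3,4], [2,4,2,3,2,4],
  [0,3,1,2,4,0], [0,3,1,2,4,2], [2,4,2,1,3], [2,1,3,4,0,2], [2,1,3,4], [2,1,3,1,4,2], [2,1,3,4,2,1],
  [2,1,3,1,4,0], [1,3,2,3], [3,2,3], [2,3], [2,3,1,2], [1,2,3], [0,2,3,1], [1,4,2,3], [4,2,3], [3,4,2,3],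
  [4,0,2,3,1], [1,3,4,2,3], [3,1,4,2,3], [0,1,3,2,4,0], [4,2,1,3,4], [2,1,3,2,4], [2,1,3,2,4,2,1],
  [0,1,3,2,4,2], [3,2,4,2,1,3], [0,2,1,4,2,1], [0,2,4,2], [0,2,1,4,0,2], [0,2,1,4], [0,2,4,0], [0,2,4,0,2,1],
  [0,3,2,4,0], [1,4,2,1,3,4], [0,3,2,1,4], [0,3,2,4,2], [0,3,2,4,0,2,1], [0,3,2,1,4,2,1], [0,1,2,4,2],
  [4,0,2,4,0], [4,0,2,1,4], [0,1,2,1,4], [2,4,0,2,4], [0,1,2,4,0], [2,1,4,2,1,3], [2,3,4,2,1], [2,3,4],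
  [2,3,1,4,2], [2,3,4,0,2], [2,3,1,4,0], [1,4,2,1,3], [3,4], [3,4,2,1], [3,1,4,0], [3,4,0,2], [3,1,4,2],
  [3,2,1,4,0], [3,2,4], [3,2,1,4,2], [0,3,1,4,0,2,4], [3,2,4,0,2], [3,2,4,2,1], [1,2,1,4,2,3], [1,2,4,2,3],
  [1,3,4,2,4], [2,1,3,4,2,4], [0,1,3,1,4,2,4], [0,3,1,2,4,2,3], [1,3,2,3,4,0], [1,4,2,3,4], [2,3,2,4],
  [0,4,2,3,1,4], [0,4,2,3,4,0], [1,4,2,3,1,4,0], [0,2,1,4,2], [0,2,4,2,1], [1,4,0,2,4], [0,2,4], [0,2,1,4,0],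
  [0,2,4,0,2], [1,3,2,1], [0,1,3,2], [1,3], [2,1,3], [0,1,3,1], [1,3,1,2], [0,4,2,1], [0,1,4,2], [0,1,4,0],
  [0,4], [0,1,4,0,2,1], [0,4,0,2], [0,1,4,2,1,3], [0,3,1,4,0], [0,3,4], [0,3,1,4,2], [0,3,4,0,2], [0,3,4,2,1],
  [0,2,1,4,2,1,3], [0,2,3,1,4,2], [0,2,3,4], [0,2,3,1,4,0], [0,2,3,4,2,1], [0,2,3,4,0,2], [2,4,2,1], [2,1,4,2],
  [2,4], [0,1,4,0,2,4], [2,4,0,2], [2,1,4,0], [0,1,2,4,2,3], [0,1,2,1,4,2,3], [1,3,1,4,2,4], [3,1,2,4,2,3],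
  [0,1,3,4,2,4], [0,2,1,3,4,2,4], [1,4,2], [4,2,1], [4], [1,4,0], [4,0,2], [1,4,0,2,1], [0,3,2,1,4,0],
  [3,1,4,0,2,4], [0,3,2,4], [0,3,2,4,2,1], [0,3,2,4,0,2], [0,3,2,1,4,2], [1,3,2], [2,1,3,2], [1,3,1],
  [2,1,3,1], [0,1,3], [0,2,1,3], [1,2,3,2,4,0], [4,2,3,1,4], [3,2,3,4], [2,3,1,4,0,2,4], [0,1,4,2,3,4],
  [4,2,3,4,0], [4,2,1,3], [1,3,4], [1,3,4,0,2], [1,3,1,4,0], [1,3,1,4,2], [1,3,4,2,1], [0,4,0,2,3,4,0],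
  [4,2,3,2,4], [1,2,3,4], [1,2,3,4,0,2], [1,2,3,1,4,2], [1,2,3,1,4,0], [1,3,2,1,4,0], [1,3,2,4], [1,3,2,4,0,2],
  [0,4,2,1,3,1,4], [1,3,2,4,2,1], [1,3,2,1,4,2], [2,4,2,3], [2,1,4,2,3], [3,4,2,4], [0,3,1,4,2,4],
  [2,4,0,2,3,1], [2,1,3,4,2,3], [0,3,2], [3,2,1], [3], [0,3,1], [3,1,2], [1,2,1,3], [0,1,2,4,2,1],
  [0,1,2,1,4,2], [4,0,2,4], [0,1,2,4], [0,1,2,4,0,2], [0,1,2,1,4,0], [0,4,2], [0,1,4,2,1], [0,4,0], [0,1,4],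
  [0,1,4,0,2], [0,4,0,2,1], [3,2,3,4,0], [4,2,3,4], [1,2,3,2,4], [0,1,4,2,3,4,0], [4,2,3,1,4,2], [4,2,3,1,4,0]]

/-- Words for the elements of the first group, ordered by their matrix entries. -/
def WL : List (List ℕ) := [
  [2,3,2], [3,4,2,3], [0,4,2,3,2], [0,1,2,3], [1,4,2,3], [0,1,4,0,2,3], [2,3,1], [4,0,2,3,1], [0,4,2,3,1],
  [1,2,3,2], [0,1,4,2,3,2], [1,3,4,2,3], [1,2,3,1], [0,1,4,2,3,1], [3,1,4,2,3], [0,2,3], [0,4,0,2,3], [4,2,3],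
  [3,2,3,4], [4,2,3,2,4], [0,2,3,4,2], [0,1,4,2,3,4], [1,2,3,4], [1,4,0,2,3,4], [4,2,3,1,4], [1,2,3,1,4,2],
  [0,2,3,1,4], [1,3,2,3,4], [0,1,2,3,4,2], [2,3,4,2,1], [1,4,2,3,1,4], [2,3,1,2,4], [2,3,1,4,2], [0,4,2,3,4],
  [4,0,2,3,4], [2,3,4], [2,3,2,4,0], [2,3,4,0,2], [0,2,3,4,0,2,4], [1,4,2,3,4,0], [2,1,4,2,1,3], [0,1,2,3,4,0],
  [0,4,2,3,1,4,0], [2,3,1,4,0], [2,3,1,2,4,0,2], [1,2,3,2,4,0], [0,2,3,4,0,2,1], [1,2,3,4,0,2],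
  [2,3,1,4,0,2,4], [0,2,3,1,4,0,2], [1,2,3,1,4,0], [4,2,3,4,0], [0,2,3,4,0], [0,4,0,2,3,4,0], [1,3,2,3],
  [0,1,3,4,2,3], [1,4,2,3,2], [2,3], [0,4,2,3], [4,0,2,3], [2,3,1,2], [0,3,1,4,2,3], [1,4,2,3,1], [3,2,3],
  [4,2,3,2], [0,3,4,2,3], [0,2,3,1], [4,2,3,1], [0,4,0,2,3,1], [1,2,3], [1,4,0,2,3], [0,1,4,2,3],
  [1,3,2,3,4,0], [0,1,2,3,4,0,2], [2,3,4,0,2,1], [0,4,2,3,4,0], [4,0,2,3,4,0], [2,3,4,0], [1,4,2,3,1,4,0],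
  [2,3,1,2,4,0], [2,3,1,4,0,2], [3,2,3,4,0], [2,3,4,0,2,4], [0,2,3,4,0,2], [4,2,3,1,4,0], [1,2,3,1,4,0,2],
  [0,2,3,1,4,0], [0,1,4,2,3,4,0], [1,2,3,4,0], [0,2,1,4,2,1,3], [1,2,3,2,4], [0,2,3,4,2,1], [1,2,3,4,2],
  [4,2,3,4], [0,2,3,4], [0,4,0,2,3,4], [4,2,3,1,4,2], [0,2,3,1,4,2], [1,2,3,1,4], [2,3,2,4], [2,3,4,2],
  [0,4,2,3,2,4], [0,4,2,3,1,4], [2,3,1,4], [2,3,1,2,4,2], [1,4,2,3,4], [2,3,1,4,2,1], [0,1,2,3,4], [], [0,4],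
  [4,0], [1], [1,4,0], [0,1,4], [1,3], [0,1,3,4], [1,3,4,0], [1,3,1], [1,3,1,4,0], [0,1,3,1,4], [3,1],
  [0,3,1,4], [3,1,4,0], [3], [3,4,0], [0,3,4], [2,4,2,4], [0,1,2,4,2,1], [2,4,0,2], [1,2,4,2,4], [1,2,4,0,2],
  [0,2,4,2,1], [1,3,2,4,0,2], [0,1,2,4,2,3], [2,4,0,2,1,3], [0,1,3,2,4,2,1], [0,3,1,2,4,2,3], [0,2,4,2,1,3,1],
  [0,3,2,4,2,1], [3,1,2,4,0,2], [2,4,0,2,3,1], [3,2,4,0,2], [0,2,4,0,2,3,4], [0,2,4,2,3], [4,2,4,2], [0,2,4,2],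
  [0,2,4,0,2,4], [1,4,2,4,2], [2,4,0,2,1], [0,1,2,4,2], [0,1,3,2,4,2], [0,2,4,2,1,3], [1,2,4,0,2,3],
  [0,3,2,4,2,1,3], [2,1,3,1,4,2], [0,1,2,4,2,3,1], [3,2,4,0,2,1], [0,2,4,2,3,1], [0,3,1,2,4,2], [0,3,2,4,2],
  [2,4,0,2,3], [0,1,2,4,2,1,3], [1,2], [0,1,4,2], [1,4,0,2], [2], [4,0,2], [0,4,2], [1,3,2], [1,3,4,0,2],
  [0,1,3,4,2], [1,3,1,2], [0,1,3,1,4,2], [4,2,1,3,1], [3,2], [0,3,4,2], [3,4,0,2], [3,1,2], [3,1,4,0,2],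
  [0,3,1,4,2], [1,4,2,4], [0,1,2,4], [0,1,4,0,2,4], [4,2,4], [0,4,0,2,4], [0,2,4], [0,1,3,2,4], [1,3,4,2,4],
  [0,1,3,4,0,2,4], [0,4,2,1,3,1,4], [1,3,1,4,2,4], [2,1,3,1,4], [0,3,2,4], [0,3,4,0,2,4], [3,4,2,4],
  [0,3,1,4,0,2,4], [0,3,1,2,4], [3,1,4,2,4], [0,1,4,2,4,0], [0,2,1,4,2,1], [1,2,4,0], [0,4,2,4,0], [2,4,0],
  [4,0,2,4,0], [1,3,2,4,0], [2,1,3,4,2,1], [0,1,2,4,2,3,2], [2,1,3,2,4,2,1], [1,3,1,2,4,0], [1,2,1,4,2,3,1],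
  [3,2,4,0], [0,2,4,2,3,2], [2,4,2,3,2,4], [0,3,2,1,4,2,1], [2,1,4,2,3,1], [3,1,2,4,0], [2,1], [0,4,2,1],
  [4,0,2,1], [1,2,1], [1,4,0,2,1], [0,1,4,2,1], [1,3,2,1], [0,1,3,4,2,1], [3,4,2,1,3], [0,2,1,3], [4,2,1,3],
  [0,4,0,2,1,3], [3,2,1], [3,4,0,2,1], [0,3,4,2,1], [3,1,2,1], [0,3,1,4,2,1], [1,4,2,1,3], [0,4,2,1,4,0],
  [0,1,2,1,4,2], [2,1,4,0], [2,1,4,2,4], [1,2,1,4,0], [0,2,1,4,2], [1,3,2,1,4,0], [0,2,1,3,4,2,4], [2,1,3,4,2],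
  [2,1,3,2,4,2], [1,2,1,4,2,3], [0,2,1,3,4,0], [3,2,1,4,0], [1,2,1,3,4,2], [0,2,1,3,4,2,3], [0,3,2,1,4,2],
  [3,1,2,1,4,0], [2,1,4,2,3], [4,2,1,4], [0,2,1,4], [0,4,0,2,1,4], [1,4,2,1,4], [2,1,4,0,2], [0,1,2,1,4],
  [2,1,3,2,4], [0,2,1,3,4,0,2], [1,3,4,2,1,4], [0,4,2,1,3,4], [2,1,3,4], [4,0,2,1,3,4], [0,3,2,1,4],
  [3,4,2,1,4], [0,3,4,0,2,1,4], [3,2,1,4,0,2], [3,1,4,2,1,4], [1,2,1,3,4], [0,1], [1,4], [0,1,4,0], [0],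
  [0,4,0], [4], [0,3], [3,4], [0,3,4,0], [0,3,1], [0,3,1,4,0], [3,1,4], [0,1,3,1], [1,3,1,4], [0,1,3,1,4,0],
  [0,1,3], [0,1,3,4,0], [1,3,4], [0,1,4,2,4,2], [1,2,4,2], [0,2,4,0,2,1], [0,4,2,4,2], [2,4,0,2,4], [2,4,2],
  [3,2,4,2], [1,2,4,2,1,3], [0,2,4,0,2,3], [0,3,2,4,0,2,1], [3,1,2,4,2], [2,4,2,3,1], [3,2,4,2,1,3],
  [1,2,4,2,3,1], [1,3,1,2,4,2], [1,3,2,4,2], [0,1,2,4,0,2,3], [2,4,2,1,3], [0,1,2,4,2,4], [2,4,2,1],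
  [0,1,2,4,0,2], [0,2,4,2,4], [0,2,4,0,2], [1,2,4,2,1], [0,3,2,4,0,2], [2,4,2,3], [2,4,0,2,3,4], [3,2,4,2,1],
  [0,2,4,0,2,3,1], [0,3,1,2,4,0,2], [1,3,2,4,2,1], [2,4,2,1,3,1], [3,1,2,4,2,3], [0,1,3,2,4,0,2],
  [0,2,4,0,2,1,3], [1,2,4,2,3], [0,1,2,1], [1,4,2,1], [0,1,4,0,2,1], [0,2,1], [0,4,0,2,1], [4,2,1], [0,3,2,1],
  [3,4,2,1], [0,3,4,0,2,1], [1,2,1,3], [0,1,4,2,1,3], [3,1,4,2,1], [2,1,3,2], [0,3,4,2,1,3], [1,3,4,2,1],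
  [2,1,3], [4,0,2,1,3], [0,4,2,1,3], [0,1,4,2,1,4], [1,2,1,4], [0,2,1,4,0,2], [0,4,2,1,4], [4,0,2,1,4],
  [2,1,4], [3,2,1,4], [3,4,0,2,1,4], [0,3,4,2,1,4], [1,4,2,1,3,4], [3,1,2,1,4], [2,1,4,0,2,3], [1,3,2,1,4],
  [0,1,3,4,2,1,4], [2,1,3,4,0,2], [4,2,1,3,4], [0,4,0,2,1,3,4], [0,2,1,3,4], [0,2,1,4,2,4], [2,1,4,2],
  [0,1,2,1,4,0], [4,2,1,4,0], [0,2,1,4,0], [1,2,1,4,2], [0,3,2,1,4,0], [2,1,3,4,2,3], [3,1,2,1,4,2],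
  [3,2,1,4,2], [0,2,1,4,2,3], [1,2,1,3,4,0], [2,1,3,2,4,0], [0,2,1,3,4,2], [2,1,3,4,2,4], [1,3,2,1,4,2],
  [2,1,3,4,0], [0,1,2,1,4,2,3], [0,2], [4,2], [0,4,0,2], [0,1,2], [0,1,4,0,2], [1,4,2], [0,3,2], [0,3,4,0,2],
  [3,4,2], [0,3,1,2], [3,1,4,2], [0,3,1,4,0,2], [0,1,3,2], [1,3,4,2], [0,1,3,4,0,2], [2,1,3,1], [0,4,2,1,3,1],
  [1,3,1,4,2], [4,2,4,0], [0,4,0,2,4,0], [0,2,4,0], [1,4,2,4,0], [0,1,2,4,0], [2,1,4,2,1], [0,3,2,4,0],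
  [0,2,4,2,3,2,4], [2,4,2,3,2], [3,2,1,4,2,1], [0,3,1,2,4,0], [3,1,4,2,4,0], [0,1,3,2,4,0], [1,2,4,2,3,2],
  [0,2,1,3,4,2,1], [1,3,2,1,4,2,1], [1,3,1,4,2,4,0], [2,1,3,1,4,0], [0,4,2,4], [2,4], [4,0,2,4], [0,1,4,2,4],
  [1,4,0,2,4], [1,2,4], [3,2,4], [0,3,4,2,4], [3,4,0,2,4], [3,1,4,0,2,4], [0,3,1,4,2,4], [3,1,2,4], [1,3,2,4],
  [1,3,4,0,2,4], [0,1,3,4,2,4], [4,2,1,3,1,4], [1,3,1,2,4], [0,1,3,1,4,2,4]]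

/-- An element of order 4 in the first group. -/
def wU : List ℕ := [1, 2, 3, 2]

/-- A conjugate of an element of order 4 in the second group. -/
def wV : List ℕ := [4, 5, 4, 2, 3, 2, 0, 5, 4, 5, 2, 3, 2, 4, 5, 4]

/-- The conjugating element. -/
def wG : List ℕ := [4, 5, 4, 2, 3, 2]

/-- An element of order 4 in the second group. -/
def wV0 : List ℕ := [0, 5, 4, 5]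

/-- The part of the conjugating element in the second group. -/
def wGB : List ℕ := [4, 5, 4]

/-- The part of the conjugating element in the first group. -/
def wGA : List ℕ := [2, 3, 2]

/-- The commutator. -/
def wZ : List ℕ := [1, 2, 0, 4, 2, 1, 4, 0]

/-- An element of order 3. -/
def wY : List ℕ := [2, 1]

end CfsgM12Amalgam
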