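import Mathlib

/-!
A group of order 432 with a self-centralising normal subgroup of order nine and exponent three.
-/

set_option autoImplicit false

namespace CfsgM12Amalgam

/-- The hypotheses on one of the two groups. -/
structure Part {G : Type*} [Group G] (A Q : Subgroup G) : Prop where
  le : Q ≤ A
  card : Nat.card A = 432
  cardQ : Nat.card Q = 9
  normal : ∀ g ∈ A, ∀ q ∈ Q, g * q * g⁻¹ ∈ Q
  comm : ∀ p ∈ Q, ∀ q ∈ Q, p * q = q * p
  exp : ∀ q ∈ Q, q ^ 3 = 1
  cent : ∀ g ∈ A, (∀ q ∈ Q, g * q = q * g) → g ∈ Q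

/-- A coordinate pair. -/
abbrev V := Fin 3 × Fin 3

/-- The determinant of two coordinate pairs. -/
def det2 (m : V × V) : Fin 3 := m.1.1 * m.2.2 - m.1.2 * m.2.1

theorem det2_card : (Finset.univ.filter fun m : V × V => det2 m ≠ 0).card = 48 := by decide +kernel

theorem det2_ker : ∀ m : V × V, det2 m = 0 → ∃ i j : Fin 3, (i, j) ≠ (0, 0) ∧
    i * m.1.1 + j * m.2.1 = 0 ∧ i * m.1.2 + j * m.2.2 = 0 := by decide +kernel

namespace Part

variable {G : Type*} [Group G] {A Q : Subgroup G} (P : Part A Q) [Finite G]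

/-- Coordinates in the normal subgroup. -/
def coord (z x : G) (v : V) : G := z ^ v.1.val * x ^ v.2.val

include P in
omit [Finite G] in
theorem order_three {z : G} (hz : z ∈ Q) (z1 : z ≠ 1) : orderOf z = 3 := by
  haveI : Fact (Nat.Prime 3) := ⟨Nat.prime_three⟩
  exact orderOf_eq_prime (P.exp z hz) z1

include P in
theorem exists_second {z : G} (hz : z ∈ Q) (z1 : z ≠ 1) : ∃ x ∈ Q, x ∉ Subgroup.zpowers z := by
  by_contra h
  push Not at h
  have := Subgroup.card_le_of_le (show Q ≤ Subgroup.zpowers z from fun q hq => h q hq)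
  rw [P.cardQ, Nat.card_zpowers, P.order_three hz z1] at this
  omega

include P in
omit [Finite G] in
theorem coord_pow {z x : G} (hz : z ∈ Q) (hx : x ∈ Q) (m n : ℕ) : z ^ m * x ^ n = z ^ (m % 3) * x ^ (n % 3) := by
  conv_lhs => rw [← Nat.mod_add_div m 3, ← Nat.mod_add_div n 3, pow_add, pow_add, pow_mul, pow_mul, P.exp z hz,
    P.exp x hx, one_pow, one_pow, mul_one, mul_one]

include P in
omit [Finite G] in
theorem coord_mul {z x : G} (hz : z ∈ Q) (hx : x ∈ Q) (v w : V) :
    coord z x v * coord z x w = coord z x (v.1 + w.1, v.2 + w.2) := by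
  have hc : Commute z x := P.comm z hz x hx
  simp only [coord, Fin.val_add]
  rw [← P.coord_pow hz hx]
  rw [mul_assoc (z ^ v.1.val), ← mul_assoc (x ^ v.2.val), ← (hc.pow_pow w.1.val v.2.val).eq, pow_add, pow_add]
  group

include P in
theorem coord_bij {z x : G} (hz : z ∈ Q) (hx : x ∈ Q) (z1 : z ≠ 1) (hne : x ∉ Subgroup.zpowers z) :
    Function.Injective (coord z x) ∧ ∀ q ∈ Q, ∃ v, coord z x v = q := by
  have oz := P.order_three hz z1
  have hker : ∀ v : V, coord z x v = 1 → v = (0, 0) := by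
    rintro ⟨i, j⟩ e
    simp only [coord] at e
    have hx' : x ^ j.val ∈ Subgroup.zpowers z := by
      rw [eq_inv_of_mul_eq_one_right e]
      exact inv_mem (pow_mem (Subgroup.mem_zpowers z) _)
    have hj : j = 0 := by
      fin_cases j
      · rfl
      · exact absurd (by simpa using hx') hne
      · refine absurd ?_ hne
        have : x = (x ^ 2)⁻¹ := eq_inv_of_mul_eq_one_right (by rw [← pow_succ]; exact P.exp x hx)
        rw [this]
        exact inv_mem hx'
    subst hj
    simp only [Fin.val_zero, pow_zero, mul_one] at e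
    have hi : i.val = 0 := by
      by_contra h
      have := orderOf_le_of_pow_eq_one (Nat.pos_of_ne_zero h) e
      omega
    exact Prod.ext (Fin.ext hi) rfl
  have hinj : Function.Injective (coord z x) := by
    intro v w e
    have h := P.coord_mul hz hx (v.1 - w.1, v.2 - w.2) w
    simp only [sub_add_cancel] at h
    rw [← e] at h
    have := hker _ (mul_eq_right.1 h)
    exact Prod.ext (sub_eq_zero.1 (congrArg Prod.fst this)) (sub_eq_zero.1 (congrArg Prod.snd this))
  refine ⟨hinj, fun q hq => ?_⟩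
  let f : V → Q := fun v => ⟨coord z x v, mul_mem (pow_mem hz _) (pow_mem hx _)⟩
  have hf : Function.Bijective f := (Nat.bijective_iff_injective_and_card f).2
    ⟨fun v w e => hinj (congrArg Subtype.val e), by simp [P.cardQ]⟩
  obtain ⟨v, hv⟩ := hf.2 ⟨q, hq⟩
  exact ⟨v, congrArg Subtype.val hv⟩

include P in
theorem cent_two {z x : G} (hz : z ∈ Q) (hx : x ∈ Q) (z1 : z ≠ 1) (hne : x ∉ Subgroup.zpowers z) {g : G}
    (hg : g ∈ A) (ez : g * z * g⁻¹ = z) (ex : g * x * g⁻¹ = x) : g ∈ Q := by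
  refine P.cent g hg fun q hq => ?_
  obtain ⟨v, rfl⟩ := (P.coord_bij hz hx z1 hne).2 q hq
  have cz : Commute g z := mul_inv_eq_iff_eq_mul.1 ez
  have cx : Commute g x := mul_inv_eq_iff_eq_mul.1 ex
  exact ((cz.pow_right _).mul_right (cx.pow_right _)).eq

include P in
/-- The group induces every automorphism of its normal subgroup. -/
theorem exists_act {z x : G} (hz : z ∈ Q) (hx : x ∈ Q) (z1 : z ≠ 1) (hne : x ∉ Subgroup.zpowers z) (m : V × V)
    (hm : det2 m ≠ 0) : ∃ g ∈ A, g * z * g⁻¹ = coord z x m.1 ∧ g * x * g⁻¹ = coord z x m.2 := by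
  classical
  haveI := Fintype.ofFinite G
  obtain ⟨hinj, hsur⟩ := P.coord_bij hz hx z1 hne
  choose c hc using hsur
  let T : A → V × V := fun g => (c (g * z * (g : G)⁻¹) (P.normal g g.2 z hz), c (g * x * (g : G)⁻¹) (P.normal g g.2 x hx))
  have hT : ∀ g : A, det2 (T g) ≠ 0 := by
    intro g h0
    obtain ⟨i, j, hij, e1, e2⟩ := det2_ker _ h0
    refine hij (hinj ?_)
    have hl : ∀ (n : Fin 3) (v : V), coord z x v ^ n.val = coord z x (n * v.1, n * v.2) := by
      intro n v
      have hc' : Commute z x := P.comm z hz x hx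
      simp only [coord, Fin.val_mul]
      rw [(hc'.pow_pow _ _).mul_pow, ← pow_mul, ← pow_mul, mul_comm v.1.val, mul_comm v.2.val, ← P.coord_pow hz hx]
    have h1 : (g : G) * coord z x (i, j) * (g : G)⁻¹ = 1 := by
      have : (g : G) * coord z x (i, j) * (g : G)⁻¹ = ((g : G) * z * (g : G)⁻¹) ^ i.val * ((g : G) * x * (g : G)⁻¹) ^ j.val := by
        simp only [coord, conj_pow]
        group
      rw [this, ← hc _ (P.normal g g.2 z hz), ← hc _ (P.normal g g.2 x hx), hl, hl, P.coord_mul hz hx]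
      simp only [T] at e1 e2
      simp [e1, e2, coord]
    rw [conj_eq_one_iff] at h1
    rw [h1]
    simp [coord]
  set s : Finset (V × V) := (Finset.univ : Finset A).image T with hs
  have hsub : s ⊆ Finset.univ.filter fun m : V × V => det2 m ≠ 0 := by
    intro v hv
    obtain ⟨g, -, rfl⟩ := Finset.mem_image.1 hv
    exact Finset.mem_filter.2 ⟨Finset.mem_univ _, hT g⟩
  have hfib : (Finset.univ : Finset A).card ≤ 9 * s.card := by
    refine Finset.card_le_mul_card_image _ 9 fun v hv => ?_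
    obtain ⟨g₀, -, hg₀⟩ := Finset.mem_image.1 hv
    let f : {g : A // T g = v} → Q := fun g => ⟨(g₀ : G)⁻¹ * (g.1 : G), by
      have e := g.2.trans hg₀.symm
      have e1 := hc _ (P.normal _ g.1.2 z hz)
      have e2 := hc _ (P.normal _ g.1.2 x hx)
      simp only [T, Prod.ext_iff] at e
      rw [Prod.ext e.1.1 e.1.2, hc] at e1
      rw [Prod.ext e.2.1 e.2.2, hc] at e2
      refine P.cent_two hz hx z1 hne (mul_mem (inv_mem g₀.2) g.1.2) ?_ ?_
      · calc _ = (g₀ : G)⁻¹ * ((g.1 : G) * z * (g.1 : G)⁻¹) * g₀ := by group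
          _ = z := by rw [← e1]; group
      · calc _ = (g₀ : G)⁻¹ * ((g.1 : G) * x * (g.1 : G)⁻¹) * g₀ := by group
          _ = x := by rw [← e2]; group⟩
    have hf : Function.Injective f := fun a b e => Subtype.ext (Subtype.ext (mul_left_cancel (congrArg Subtype.val e)))
    have := Nat.card_le_card_of_injective f hf
    rw [P.cardQ, Nat.card_eq_fintype_card, Fintype.card_subtype] at this
    convert this using 2
  have heq : s = Finset.univ.filter fun m : V × V => det2 m ≠ 0 := by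
    refine Finset.eq_of_subset_of_card_le hsub ?_
    rw [det2_card]
    rw [Finset.card_univ, ← Nat.card_eq_fintype_card, P.card] at hfib
    omega
  obtain ⟨g, -, rfl⟩ := Finset.mem_image.1 (heq ▸ Finset.mem_filter.2 ⟨Finset.mem_univ m, hm⟩ : m ∈ s)
  exact ⟨g, g.2, (hc _ (P.normal g g.2 z hz)).symm, (hc _ (P.normal g g.2 x hx)).symm⟩

include P in
omit [Finite G] in
theorem sq_inj {q : G} (hq : q ∈ Q) (e : q = q⁻¹) : q = 1 := by
  have h3 := P.exp q hq
  rw [pow_succ, pow_two] at h3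
  have h2 : q * q = 1 := by nth_rw 2 [e]; exact mul_inv_cancel q
  rwa [h2, one_mul] at h3

include P in
/-- An element inducing inversion is an involution. -/
theorem exists_inverting : ∃ g ∈ A, g * g = 1 ∧ ∀ q ∈ Q, g * q * g⁻¹ = q⁻¹ := by
  haveI : Nontrivial Q := Finite.one_lt_card_iff_nontrivial.1 (by rw [P.cardQ]; norm_num)
  obtain ⟨⟨z, hz⟩, z1'⟩ := exists_ne (1 : Q)
  have z1 : z ≠ 1 := fun e => z1' (Subtype.ext e)
  obtain ⟨x, hx, hne⟩ := P.exists_second hz z1
  obtain ⟨g, hg, ez, ex⟩ := P.exists_act hz hx z1 hne ((2, 0), (0, 2)) (by decide)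
  have inv2 : ∀ q ∈ Q, q ^ 2 = q⁻¹ := fun q hq => eq_inv_of_mul_eq_one_left (by rw [← pow_succ]; exact P.exp q hq)
  have ez' : g * z * g⁻¹ = z⁻¹ := by simpa [coord, inv2 z hz] using ez
  have ex' : g * x * g⁻¹ = x⁻¹ := by simpa [coord, inv2 x hx] using ex
  have hinv : ∀ q ∈ Q, g * q * g⁻¹ = q⁻¹ := by
    intro q hq
    obtain ⟨v, rfl⟩ := (P.coord_bij hz hx z1 hne).2 q hq
    have hc : Commute z x := P.comm z hz x hx
    calc g * coord z x v * g⁻¹ = (g * z * g⁻¹) ^ v.1.val * (g * x * g⁻¹) ^ v.2.val := by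
          simp only [coord, conj_pow]; group
      _ = (coord z x v)⁻¹ := by
        rw [ez', ex', inv_pow, inv_pow, coord, mul_inv_rev, ((hc.pow_pow _ _).inv_inv).eq]
  refine ⟨g, hg, ?_, hinv⟩
  have hgg : g * g ∈ Q := P.cent_two hz hx z1 hne (mul_mem hg hg)
    (by calc _ = g * (g * z * g⁻¹) * g⁻¹ := by group
          _ = z := by rw [ez', ← conj_inv, ez', inv_inv])
    (by calc _ = g * (g * x * g⁻¹) * g⁻¹ := by group
          _ = x := by rw [ex', ← conj_inv, ex', inv_inv])
  exact P.sq_inj hgg (by rw [← hinv _ hgg]; group)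

include P in
omit [Finite G] in
/-- Elements commuting with an inverting involution are determined by their action. -/
theorem faithful {h : G} (hh : ∀ q ∈ Q, h * q * h⁻¹ = q⁻¹) {g : G} (hQ : g ∈ Q) (e : g * h * g⁻¹ = h) :
    g = 1 := by
  refine P.sq_inj hQ ?_
  rw [← hh g hQ]
  have : Commute g h := mul_inv_eq_iff_eq_mul.1 e
  rw [← this.eq, mul_inv_cancel_right]

include P in
/-- Every automorphism is induced by an element commuting with a given inverting involution. -/
theorem exists_act_comm {h z x : G} (hA : h ∈ A) (hhi : h * h = 1) (hh : ∀ q ∈ Q, h * q * h⁻¹ = q⁻¹)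
    (hz : z ∈ Q) (hx : x ∈ Q) (z1 : z ≠ 1) (hne : x ∉ Subgroup.zpowers z) (m : V × V) (hm : det2 m ≠ 0) :
    ∃ g ∈ A, g * z * g⁻¹ = coord z x m.1 ∧ g * x * g⁻¹ = coord z x m.2 ∧ h * g * h⁻¹ = g := by
  obtain ⟨b, hb, ez, ex⟩ := P.exists_act hz hx z1 hne m hm
  have hi : h⁻¹ = h := inv_eq_of_mul_eq_one_right hhi
  set q := b⁻¹ * (h * b * h⁻¹) with hq'
  have hinvi : ∀ p ∈ Q, h⁻¹ * p * h = p⁻¹ := fun p hp => by
    have := hh p hp
    rw [hi] at this ⊢
    exact this
  have hq : q ∈ Q := by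
    have hconj : ∀ p ∈ Q, (h * b * h⁻¹) * p * (h * b * h⁻¹)⁻¹ = b * p * b⁻¹ := fun p hp => by
      calc _ = h * (b * (h⁻¹ * p * h) * b⁻¹) * h⁻¹ := by group
        _ = (b * p⁻¹ * b⁻¹)⁻¹ := by
          rw [hinvi p hp, hh _ (P.normal b hb _ (inv_mem hp))]
        _ = b * p * b⁻¹ := by group
    refine P.cent_two hz hx z1 hne (mul_mem (inv_mem hb) (mul_mem (mul_mem hA hb) (inv_mem hA))) ?_ ?_
    · calc _ = b⁻¹ * ((h * b * h⁻¹) * z * (h * b * h⁻¹)⁻¹) * b := by rw [hq']; group
        _ = z := by rw [hconj z hz]; group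
    · calc _ = b⁻¹ * ((h * b * h⁻¹) * x * (h * b * h⁻¹)⁻¹) * b := by rw [hq']; group
        _ = x := by rw [hconj x hx]; group
  have hbq : h * b * h⁻¹ = b * q := by rw [hq']; group
  have hc : ∀ p ∈ Q, q * q * p * (q * q)⁻¹ = p := fun p hp => by
    rw [P.comm _ (mul_mem hq hq) p hp, mul_inv_cancel_right]
  refine ⟨b * (q * q), mul_mem hb (mul_mem (P.le hq) (P.le hq)), ?_, ?_, ?_⟩
  · calc _ = b * (q * q * z * (q * q)⁻¹) * b⁻¹ := by group
      _ = _ := by rw [hc z hz, ez]
  · calc _ = b * (q * q * x * (q * q)⁻¹) * b⁻¹ := by group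
      _ = _ := by rw [hc x hx, ex]
  · calc _ = (h * b * h⁻¹) * ((h * q * h⁻¹) * (h * q * h⁻¹)) := by group
      _ = b * q * (q⁻¹ * q⁻¹) := by rw [hbq, hh q hq]
      _ = b * q⁻¹ := by group
      _ = b * (q * q) := by
        rw [eq_inv_of_mul_eq_one_left (show q * q * q = 1 by rw [← P.exp q hq, pow_succ, pow_two])]

include P in
omit [Finite G] in
/-- An involution normalising the subgroup and not inverting it fixes a nontrivial element. -/
theorem exists_fixed {h k : G} (hA : h ∈ A) (hh : ∀ q ∈ Q, h * q * h⁻¹ = q⁻¹) (hkA : k ∈ A) (hkk : k * k = 1)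
    (hcomm : h * k = k * h) (hhi : h * h = 1) (hne : h ≠ k) : ∃ x ∈ Q, x ≠ 1 ∧ k * x * k⁻¹ = x := by
  by_contra hcon
  push Not at hcon
  have hki : k⁻¹ = k := inv_eq_of_mul_eq_one_right hkk
  have key : ∀ q ∈ Q, k * q * k⁻¹ = q⁻¹ := by
    intro q hq
    have hr : k * q * k⁻¹ ∈ Q := P.normal k hkA q hq
    by_contra e
    refine hcon _ (mul_mem hq hr) (fun e' => e (eq_inv_of_mul_eq_one_right e')) ?_
    calc _ = (k * q * k⁻¹) * (k * k * q * (k * k)⁻¹) := by group
      _ = q * (k * q * k⁻¹) := by rw [hkk, one_mul, inv_one, mul_one, P.comm _ hr _ hq]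
  have hQ : h * k ∈ Q := P.cent _ (mul_mem hA hkA) fun q hq => by
    refine mul_inv_eq_iff_eq_mul.1 ?_
    calc _ = h * (k * q * k⁻¹) * h⁻¹ := by group
      _ = q := by rw [key q hq, hh _ (inv_mem hq), inv_inv]
  have h1 : h * k = 1 := P.sq_inj hQ (by
    rw [mul_inv_rev, hki, inv_eq_of_mul_eq_one_right hhi, hcomm])
  exact hne (by rw [eq_inv_of_mul_eq_one_left h1, hki])

end Part

end CfsgM12Amalgam
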