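import Cfsg.Agent.Lib.M12Amalgam.Words

/-!
Six involutions in the special linear group of degree three over three elements.
-/

set_option autoImplicit false
set_option maxRecDepth 100000

namespace CfsgM12Amalgam

/-- The six matrices. -/
def lTab : List (Matrix (Fin 3) (Fin 3) (ZMod 3)) := [

  !![2, 0, 0; 0, 2, 0; 0, 0, 1],
  !![1, 0, 0; 0, 2, 0; 0, 0, 2],
  !![1, 1, 0; 0, 2, 0; 0, 0, 2],
  !![1, 0, 0; 2, 2, 0; 0, 0, 2],
  !![2, 0, 0; 0, 2, 2; 0, 0, 1],
  !![2, 0, 0; 0, 2, 0; 0, 1, 1]]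

theorem lTab_det : ∀ i : Fin 7, (lTab.getD i 1).det = 1 ∧ lTab.getD i 1 * lTab.getD i 1 = 1 := by decide +kernel

theorem lTab_det' (i : ℕ) : (lTab.getD i 1).det = 1 ∧ lTab.getD i 1 * lTab.getD i 1 = 1 := by
  rcases Nat.lt_or_ge i 6 with h | h
  · exact lTab_det ⟨i, by omega⟩
  · rw [List.getD_eq_default (l := lTab) (hn := h)]
    simp

/-- The six involutions. -/
def lam (i : ℕ) : Matrix.SpecialLinearGroup (Fin 3) (ZMod 3) := ⟨lTab.getD i 1, (lTab_det' i).1⟩

theorem lam_sq (i : ℕ) : lam i * lam i = 1 := Subtype.ext (lTab_det' i).2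

theorem lam_high {i : ℕ} (h : 6 ≤ i) : lam i = 1 := by
  refine Subtype.ext ?_
  show lTab.getD i 1 = 1
  rw [List.getD_eq_default (l := lTab) (hn := h)]

/-- The packed entries. -/
def sigL (w : List ℕ) : ℕ :=
  let m := (val lam w).1
  ((((((((m 0 0).val * 3 + (m 0 1).val) * 3 + (m 0 2).val) * 3 + (m 1 0).val) * 3 + (m 1 1).val) * 3 + (m 1 2).val) * 3 +
    (m 2 0).val) * 3 + (m 2 1).val) * 3 + (m 2 2).val

theorem wl_ok : (incr (WL.map sigL) && WL.all okA && WL.length == 432) = true := by decide +kernel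

/-- A word of order thirteen. -/
def l13 : List ℕ := [5, 3, 2, 4]

theorem l_orders : val lam (List.replicate 13 l13).flatten = 1 ∧ val lam l13 ≠ 1 := by decide +kernel

end CfsgM12Amalgam
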