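import Cfsg.Agent.Lib.M12Amalgam.Ident
import Cfsg.Agent.Lib.M12Amalgam.ModelM
import Cfsg.Agent.Lib.M12Amalgam.ModelL
import Cfsg.Agent.Lib.L33Graph.Model

/-!
Two groups of the shape 3^2:GL(2,3) with a common Borel subgroup generate M12 or L3(3).
-/

set_option autoImplicit false
set_option maxRecDepth 100000

namespace CfsgM12Amalgam

open Cfsg CfsgGolay

theorem relsM_model : ((CertM.rels ++ CertA.rels).all fun w => decide (∀ q : GolayPt, val mu w q = q)) = true := by
  decide +kernel

theorem relsL_model : ((CertL.rels ++ CertA.rels).all fun w => decide (val lam w = 1)) = true := by decide +kernel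

theorem relsM_val {w : List ℕ} (hw : w ∈ CertM.rels ∨ w ∈ CertA.rels) : val mu' w = 1 := by
  have h := List.all_eq_true.1 relsM_model w (List.mem_append.2 hw)
  exact Subtype.ext (by rw [val_mu']; exact Equiv.ext fun q => of_decide_eq_true h q)

theorem relsL_val {w : List ℕ} (hw : w ∈ CertL.rels ∨ w ∈ CertA.rels) : val lam w = 1 :=
  of_decide_eq_true (List.all_eq_true.1 relsL_model w (List.mem_append.2 hw))

theorem val_mem_closure {M : Type*} [Group M] (σ : ℕ → M) {w : List ℕ} (hw : ∀ l ∈ w, l < 6) :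
    val σ w ∈ Subgroup.closure (σ '' Set.Iio 6) :=
  Subgroup.list_prod_mem _ fun a ha => by
    obtain ⟨l, hl, rfl⟩ := List.mem_map.1 ha
    exact Subgroup.subset_closure ⟨l, hw l hl, rfl⟩

theorem mu'_six : mu' 6 = 1 := Subtype.ext (mu_high le_rfl)

theorem gen_M : Subgroup.closure (mu' '' Set.Iio 6) = ⊤ := by
  set R := Subgroup.closure (mu' '' Set.Iio 6)
  have hok := wm_ok
  simp only [Bool.and_eq_true, beq_iff_eq] at hok
  obtain ⟨⟨hinc, hall⟩, hlen⟩ := hok
  have hnd := incr_nodup hinc
  have h432 := first_card mu' mu'_sq (fun w hw => relsM_val (Or.inr hw)) hall hlen (fun u hu w hw e =>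
    List.inj_on_of_nodup_map hnd hu hw (by
      have e' : val mu u = val mu w := by rw [← val_mu', e, val_mu']
      simp only [sigM, e'])) hnd.of_map
  have d432 : 432 ∣ Nat.card R := h432 ▸ Subgroup.card_dvd_of_le
    (Subgroup.closure_mono (Set.image_mono (Set.Iio_subset_Iio (by norm_num))))
  obtain ⟨a11, n11, a5, n5⟩ := m_orders
  have ho : ∀ (p : ℕ) (hp : p.Prime) (m : List ℕ), (∀ q : GolayPt, (val mu m ^ p) q = q) →
      (¬ ∀ q : GolayPt, val mu m q = q) → orderOf (val mu' m) = p := fun p hp m h1 h2 => by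
    haveI : Fact p.Prime := ⟨hp⟩
    exact orderOf_eq_prime (Subtype.ext (by rw [Subgroup.coe_pow, val_mu']; exact Equiv.ext h1))
      fun e => h2 fun q => by rw [← val_mu', e]; rfl
  have d11 := Subgroup.orderOf_dvd_natCard R (val_mem_closure mu' (w := m11) (by decide))
  have d5 := Subgroup.orderOf_dvd_natCard R (val_mem_closure mu' (w := m5) (by decide))
  rw [ho 11 (by norm_num) m11 a11 n11] at d11
  rw [ho 5 (by norm_num) m5 a5 n5] at d5
  have hd : 23760 ∣ Nat.card R :=
    Nat.Coprime.mul_dvd_of_dvd_of_dvd (show Nat.Coprime 55 432 by norm_num)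
      (Nat.Coprime.mul_dvd_of_dvd_of_dvd (show Nat.Coprime 5 11 by norm_num) d5 d11) d432
  refine CfsgQS3.Zero.m12_index ?_
  have hmul := R.card_mul_index
  rw [CfsgGolay.card_sporM12] at hmul
  obtain ⟨m, hm⟩ := hd
  rw [hm] at hmul
  have hpos : 0 < m := Nat.pos_of_ne_zero fun h => by simp [h] at hmul
  nlinarith

theorem gen_L : Subgroup.closure (lam '' Set.Iio 6) = ⊤ := by
  set R := Subgroup.closure (lam '' Set.Iio 6)
  have hok := wl_ok
  simp only [Bool.and_eq_true, beq_iff_eq] at hok
  obtain ⟨⟨hinc, hall⟩, hlen⟩ := hok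
  have hnd := incr_nodup hinc
  have h432 := first_card lam lam_sq (fun w hw => relsL_val (Or.inr hw)) hall hlen (fun u hu w hw e =>
    List.inj_on_of_nodup_map hnd hu hw (by simp only [sigL, e])) hnd.of_map
  have d432 : 432 ∣ Nat.card R := h432 ▸ Subgroup.card_dvd_of_le
    (Subgroup.closure_mono (Set.image_mono (Set.Iio_subset_Iio (by norm_num))))
  obtain ⟨a13, n13⟩ := l_orders
  have d13 := Subgroup.orderOf_dvd_natCard R (val_mem_closure lam (w := l13) (by decide))
  haveI : Fact (Nat.Prime 13) := ⟨by norm_num⟩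
  have o13 : orderOf (val lam l13) = 13 := by
    refine orderOf_eq_prime ?_ n13
    rw [← a13]
    show _ = ((List.replicate 13 l13).flatten.map lam).prod
    rw [List.map_flatten, List.prod_flatten, List.map_map, List.map_replicate, List.prod_replicate]
    rfl
  rw [o13] at d13
  have hd : 5616 ∣ Nat.card R := Nat.Coprime.mul_dvd_of_dvd_of_dvd (show Nat.Coprime 13 432 by norm_num) d13 d432
  refine Subgroup.eq_top_of_le_card R ?_
  rw [CfsgLib.L33Graph.card_SL33]
  exact Nat.le_of_dvd Nat.card_pos hd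

theorem Amalg.card_gt {G : Type*} [Group G] [Finite G] (H : Amalg G) : 432 < Nat.card G := by
  by_contra hle
  have hA : H.A = ⊤ := Subgroup.eq_top_of_le_card _ (by rw [H.cardA]; omega)
  have hB : H.B = ⊤ := Subgroup.eq_top_of_le_card _ (by rw [H.cardB]; omega)
  exact H.ne (hA.trans hB.symm)

/-- The amalgam generates M12 or L3(3). -/
theorem Amalg.iso {G : Type*} [Group G] [Finite G] (H : Amalg G) :
    Spor.IsoM12 G ∨ Nonempty (G ≃* Matrix.ProjectiveSpecialLinearGroup (Fin 3) (ZMod 3)) := by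
  rcases H.cube_rel with e | e
  · left
    obtain ⟨f, hf⟩ := H.exists_onto mu' mu'_sq mu'_six CertM.sheet certM_shape (H.relsM_ok e)
      (fun w hw => relsM_val (Or.inl hw)) (fun w hw => relsM_val (Or.inr hw)) gen_M (by rw [CfsgGolay.card_sporM12])
    haveI := CfsgGolay.isSimple_sporM12
    haveI : Nontrivial G := Finite.one_lt_card_iff_nontrivial.1 (lt_trans (by norm_num) H.card_gt)
    have hinj : Function.Injective f := by
      rw [← MonoidHom.ker_eq_bot_iff]
      refine f.normal_ker.eq_bot_or_eq_top.resolve_right fun ht => ?_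
      obtain ⟨g, hg⟩ := exists_ne (1 : G)
      obtain ⟨a, rfl⟩ := hf g
      exact hg (MonoidHom.mem_ker.1 (ht ▸ Subgroup.mem_top a))
    exact ⟨(MulEquiv.ofBijective f ⟨hinj, hf⟩).symm⟩
  · right
    obtain ⟨f, hf⟩ := H.exists_onto lam lam_sq (lam_high le_rfl) CertL.sheet certL_shape (H.relsL_ok e)
      (fun w hw => relsL_val (Or.inl hw)) (fun w hw => relsL_val (Or.inr hw)) gen_L
      (by rw [CfsgLib.L33Graph.card_SL33])
    have hd : Nat.card G ∣ 5616 := CfsgLib.L33Graph.card_SL33 ▸ Subgroup.card_dvd_of_surjective f hf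
    obtain ⟨m, hm⟩ : 432 ∣ Nat.card G := H.cardA ▸ Subgroup.card_subgroup_dvd_card H.A
    have h1 : m ∣ 13 := (Nat.mul_dvd_mul_iff_left (by norm_num : 0 < 432)).1 (by rw [← hm]; exact hd)
    have h13 : m = 13 := by
      rcases (Nat.dvd_prime (by norm_num : Nat.Prime 13)).1 h1 with h | h
      · have := H.card_gt
        rw [hm, h] at this
        omega
      · exact h
    have hinj : Function.Injective f :=
      ((Nat.bijective_iff_surjective_and_card f).2 ⟨hf, by rw [CfsgLib.L33Graph.card_SL33, hm, h13]⟩).1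
    have hc : Subgroup.center CfsgLib.L33Graph.SL33 = ⊥ := (Subgroup.eq_bot_iff_forall _).mpr fun x hx =>
      CfsgLib.L33Graph.eq_one_of_commute fun g c => ((Subgroup.mem_center_iff.mp hx) _).symm
    exact ⟨(MulEquiv.ofBijective f ⟨hinj, hf⟩).symm.trans
      ((QuotientGroup.quotientMulEquivOfEq hc).trans QuotientGroup.quotientBot).symm⟩

end CfsgM12Amalgam
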