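import Cfsg.Agent.Lib.M12Amalgam.Main
import Cfsg.Agent.Lib.Basic

/-!
Two groups of the shape 3^2:GL(2,3) with a common Borel subgroup: the reduction to the configuration.
-/

set_option autoImplicit false

namespace CfsgM12Amalgam

theorem factorization_432 : (432 : ℕ).factorization 3 = 3 := by
  rw [show (432 : ℕ) = 3 ^ 3 * 16 from rfl, Nat.factorization_mul (by norm_num) (by norm_num), Finsupp.add_apply,
    Nat.Prime.factorization_pow Nat.prime_three, Finsupp.single_eq_same,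
    Nat.factorization_eq_zero_of_not_dvd (show ¬ 3 ∣ 16 by norm_num)]

theorem card_gl23 : Nat.card (GL (Fin 2) (ZMod 3)) = 48 := by
  haveI : Fact (Nat.Prime 3) := ⟨Nat.prime_three⟩
  rw [Matrix.card_GL_field]
  simp [Fin.prod_univ_two]

/-- The normal subgroup of a group of order 432 in a given subgroup. -/
theorem part_data {G : Type*} [Group G] [Finite G] {A D : Subgroup G} (hD : D ≤ A)
    (hS : ¬ 3 ∣ (D.subgroupOf A).index) (eA : A ⧸ Cfsg.pCore 3 A ≃* GL (Fin 2) (ZMod 3))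
    (hc : IsMulCommutative (Cfsg.pCore 3 A)) (he : ∀ x ∈ Cfsg.pCore 3 A, x ^ 3 = 1)
    (h9 : Nat.card (Cfsg.pCore 3 A) = 9)
    (hcent : Subgroup.centralizer ((Cfsg.pCore 3 A : Subgroup A) : Set A) = Cfsg.pCore 3 A) (S : Sylow 3 ↥D) :
    Part A ((Cfsg.pCore 3 A).map A.subtype) ∧ (Cfsg.pCore 3 A).map A.subtype ≤ (S : Subgroup ↥D).map D.subtype ∧
      Nat.card (S : Subgroup ↥D) = 27 := by
  haveI : Fact (Nat.Prime 3) := ⟨Nat.prime_three⟩
  set P := Cfsg.pCore 3 A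
  have hA : Nat.card A = 432 := by
    rw [Subgroup.card_eq_card_quotient_mul_card_subgroup P, Nat.card_congr eA.toEquiv, card_gl23, h9]
  have hDc : 27 ∣ Nat.card D := by
    have h := (D.subgroupOf A).card_mul_index
    rw [hA, Nat.card_congr (Subgroup.subgroupOfEquivOfLe hD).toEquiv] at h
    have hco : Nat.Coprime 27 (D.subgroupOf A).index := by
      rw [show (27 : ℕ) = 3 ^ 3 from rfl]
      exact ((Nat.Prime.coprime_iff_not_dvd Nat.prime_three).2 hS).pow_left _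
    exact hco.dvd_of_dvd_mul_right (h ▸ by norm_num)
  have hS27 : Nat.card (S : Subgroup ↥D) = 27 := by
    rw [S.card_eq_multiplicity]
    have h1 : 3 ≤ (Nat.card D).factorization 3 :=
      (Nat.Prime.pow_dvd_iff_le_factorization Nat.prime_three Nat.card_pos.ne').1 hDc
    have h2 : (Nat.card D).factorization 3 ≤ 3 := by
      refine le_trans (Finsupp.le_def.1 ((Nat.factorization_le_iff_dvd Nat.card_pos.ne' (by norm_num : (432 : ℕ) ≠ 0)).2
        (hA ▸ Subgroup.card_dvd_of_le hD)) 3) ?_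
      rw [factorization_432]
    rw [le_antisymm h2 h1]
    norm_num
  set T : Subgroup A := (S : Subgroup ↥D).map (Subgroup.inclusion hD)
  have hT : Nat.card T = 3 ^ (Nat.card A).factorization 3 := by
    rw [hA, factorization_432, ← Nat.card_congr ((S : Subgroup ↥D).equivMapOfInjective _
      (Subgroup.inclusion_injective hD)).toEquiv, hS27]
    norm_num
  have hPT : P ≤ T := by
    have := CfsgLib.pCore_le_sylow (Sylow.ofCard T hT)
    simpa using this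
  refine ⟨⟨Subgroup.map_subtype_le _, hA, by rw [← Nat.card_congr (P.equivMapOfInjective _ A.subtype_injective).toEquiv, h9],
    ?_, ?_, ?_, ?_⟩, ?_, hS27⟩
  · rintro g hg _ ⟨q, hq, rfl⟩
    exact ⟨⟨g, hg⟩ * q * ⟨g, hg⟩⁻¹, (inferInstance : P.Normal).conj_mem q hq _, rfl⟩
  · rintro _ ⟨p, hp, rfl⟩ _ ⟨q, hq, rfl⟩
    have h : (⟨p, hp⟩ : P) * ⟨q, hq⟩ = ⟨q, hq⟩ * ⟨p, hp⟩ := hc.is_comm.comm _ _
    exact congrArg A.subtype (congrArg Subtype.val h)
  · rintro _ ⟨q, hq, rfl⟩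
    exact congrArg A.subtype (he q hq)
  · intro g hg hq
    refine ⟨⟨g, hg⟩, ?_, rfl⟩
    rw [← hcent]
    exact Subgroup.mem_centralizer_iff.2 fun q hqP => Subtype.ext (hq q ⟨q, hqP, rfl⟩).symm
  · rintro _ ⟨q, hq, rfl⟩
    obtain ⟨s, hs, rfl⟩ := hPT hq
    exact ⟨s, hs, rfl⟩

/-- The reduction. -/
theorem exists_config {G : Type*} [Group G] [Finite G] (A B : Subgroup G) (hgen : A ⊔ B = ⊤)
    (hSylA : ¬ 3 ∣ ((A ⊓ B).subgroupOf A).index) (hSylB : ¬ 3 ∣ ((A ⊓ B).subgroupOf B).index)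
    (hcore : ∀ N : Subgroup G, N ≤ A ⊓ B → (∀ a ∈ A, N.map (MulAut.conj a).toMonoidHom = N) →
      (∀ b ∈ B, N.map (MulAut.conj b).toMonoidHom = N) → N = ⊥)
    (eA : A ⧸ Cfsg.pCore 3 A ≃* GL (Fin 2) (ZMod 3)) (eB : B ⧸ Cfsg.pCore 3 B ≃* GL (Fin 2) (ZMod 3))
    (hOA : IsMulCommutative (Cfsg.pCore 3 A) ∧ (∀ x ∈ Cfsg.pCore 3 A, x ^ 3 = 1) ∧ Nat.card (Cfsg.pCore 3 A) = 9 ∧
      Subgroup.centralizer ((Cfsg.pCore 3 A : Subgroup A) : Set A) = Cfsg.pCore 3 A)
    (hOB : IsMulCommutative (Cfsg.pCore 3 B) ∧ (∀ x ∈ Cfsg.pCore 3 B, x ^ 3 = 1) ∧ Nat.card (Cfsg.pCore 3 B) = 9 ∧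
      Subgroup.centralizer ((Cfsg.pCore 3 B : Subgroup B) : Set B) = Cfsg.pCore 3 B)
    (S : Sylow 3 ↥(A ⊓ B)) (Z : Subgroup G)
    (hZ : Z = ((S : Subgroup ↥(A ⊓ B)) ⊓ Subgroup.centralizer ((S : Subgroup ↥(A ⊓ B)) : Set ↥(A ⊓ B))).map (A ⊓ B).subtype)
    (hNZ : Subgroup.normalizer (Z : Set G) ≤ A ⊓ B) : Nonempty (Amalg G) := by
  obtain ⟨PA, hAS, h27⟩ := part_data inf_le_left hSylA eA hOA.1 hOA.2.1 hOA.2.2.1 hOA.2.2.2 S
  obtain ⟨PB, hBS, -⟩ := part_data inf_le_right hSylB eB hOB.1 hOB.2.1 hOB.2.2.1 hOB.2.2.2 S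
  set QA := (Cfsg.pCore 3 A).map A.subtype with hQAdef
  set QB := (Cfsg.pCore 3 B).map B.subtype with hQBdef
  set S' := (S : Subgroup ↥(A ⊓ B)).map (A ⊓ B).subtype
  have hS'D : S' ≤ A ⊓ B := Subgroup.map_subtype_le _
  have hAB : QA ≤ B := hAS.trans (hS'D.trans inf_le_right)
  have hBA : QB ≤ A := hBS.trans (hS'D.trans inf_le_left)
  have hS'c : Nat.card S' = 27 := by
    rw [← Nat.card_congr ((S : Subgroup ↥(A ⊓ B)).equivMapOfInjective _ (A ⊓ B).subtype_injective).toEquiv, h27]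
  have hconj : ∀ {H Q : Subgroup G}, Part H Q → ∀ a ∈ H, Q.map (MulAut.conj a).toMonoidHom = Q := by
    intro H Q P a ha
    refine le_antisymm ?_ fun q hq => ⟨a⁻¹ * q * a, by simpa using P.normal a⁻¹ (inv_mem ha) q hq, by simp [mul_assoc]⟩
    rintro _ ⟨q, hq, rfl⟩
    exact P.normal a ha q hq
  have hQne : QA ≠ ⊥ := fun e => by
    have := PA.cardQ
    rw [e, Subgroup.card_bot] at this
    norm_num at this
  have hne : QA ≠ QB := fun e => hQne (hcore QA (le_inf PA.le hAB) (hconj PA) (e ▸ hconj PB))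
  have hneAB : A ≠ B := by
    intro e
    subst e
    exact hne rfl
  -- the two normal subgroups meet in a group of order three
  have hD : Nat.card ↥(QA ⊓ QB : Subgroup G) = 3 := by
    haveI : Fact (Nat.Prime 3) := ⟨Nat.prime_three⟩
    obtain ⟨i, hi, he⟩ := (Nat.dvd_prime_pow Nat.prime_three).1
      (show Nat.card ↥(QA ⊓ QB : Subgroup G) ∣ 3 ^ 2 by
        have h := Subgroup.card_dvd_of_le (inf_le_left : QA ⊓ QB ≤ QA)
        rwa [PA.cardQ] at h)
    interval_cases i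
    · exfalso
      let f : QA × QB → S' := fun p => ⟨p.1 * p.2, mul_mem (hAS p.1.2) (hBS p.2.2)⟩
      have hbot : QA ⊓ QB = ⊥ := Subgroup.eq_bot_of_card_eq _ (by rw [he, pow_zero])
      have hf : Function.Injective f := by
        rintro ⟨⟨a, ha⟩, ⟨b, hb⟩⟩ ⟨⟨a', ha'⟩, ⟨b', hb'⟩⟩ e
        have e' : a * b = a' * b' := congrArg Subtype.val e
        have h1 : a'⁻¹ * a = b' * b⁻¹ := by
          rw [eq_mul_inv_iff_mul_eq, mul_assoc, e', inv_mul_cancel_left]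
        have h2 : a'⁻¹ * a ∈ QA ⊓ QB := ⟨(mul_mem (inv_mem ha') ha : a'⁻¹ * a ∈ QA), (h1 ▸ mul_mem hb' (inv_mem hb) : a'⁻¹ * a ∈ QB)⟩
        rw [hbot, Subgroup.mem_bot] at h2
        rw [h2] at h1
        exact Prod.ext (Subtype.ext (inv_mul_eq_one.1 h2).symm) (Subtype.ext (mul_inv_eq_one.1 h1.symm).symm)
      have h := Nat.card_le_card_of_injective f hf
      rw [Nat.card_prod, PA.cardQ, PB.cardQ, hS'c] at h
      omega
    · rw [he, pow_one]
    · exfalso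
      refine hne ((Subgroup.eq_of_le_of_card_ge inf_le_left ?_).symm.trans (Subgroup.eq_of_le_of_card_ge inf_le_right ?_))
      · rw [he, PA.cardQ]; norm_num
      · rw [he, PB.cardQ]; norm_num
  -- the two normal subgroups generate the Sylow subgroup, so its centre is their intersection
  have hsup : QA ⊔ QB = S' := by
    refine Subgroup.eq_of_le_of_card_ge (sup_le hAS hBS) ?_
    have hd9 : 9 ∣ Nat.card ↥(QA ⊔ QB : Subgroup G) := PA.cardQ ▸ Subgroup.card_dvd_of_le le_sup_left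
    have hd27 : Nat.card ↥(QA ⊔ QB : Subgroup G) ∣ 27 := hS'c ▸ Subgroup.card_dvd_of_le (sup_le hAS hBS)
    have hlt : 9 < Nat.card ↥(QA ⊔ QB : Subgroup G) := by
      by_contra hle
      have e : QA = QA ⊔ QB := Subgroup.eq_of_le_of_card_ge le_sup_left (by rw [PA.cardQ]; omega)
      exact hne (Subgroup.eq_of_le_of_card_ge (e.symm ▸ le_sup_right) (by rw [PA.cardQ, PB.cardQ])).symm
    rw [hS'c]
    obtain ⟨i, hi, he⟩ := (Nat.dvd_prime_pow Nat.prime_three).1 (show _ ∣ 3 ^ 3 from hd27)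
    rw [he] at hlt ⊢
    interval_cases i <;> omega
  have hZeq : Z = QA ⊓ QB := by
    rw [hZ]
    refine le_antisymm ?_ ?_
    · rintro _ ⟨s, ⟨hs, hsc⟩, rfl⟩
      have hcomm : ∀ q ∈ S', (s : G) * q = q * s := by
        rintro _ ⟨t, ht, rfl⟩
        exact (congrArg Subtype.val (Subgroup.mem_centralizer_iff.1 hsc t ht)).symm
      exact ⟨PA.cent _ s.2.1 fun q hq => hcomm q (hAS hq), PB.cent _ s.2.2 fun q hq => hcomm q (hBS hq)⟩
    · rintro q ⟨hqa, hqb⟩
      obtain ⟨s, hs, rfl⟩ := hAS hqa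
      refine ⟨s, ⟨hs, Subgroup.mem_centralizer_iff.2 fun t ht => Subtype.ext ?_⟩, rfl⟩
      have hle : S' ≤ Subgroup.centralizer {((A ⊓ B).subtype s)} := by
        rw [← hsup]
        exact sup_le (fun p hp => Subgroup.mem_centralizer_singleton_iff.2 (PA.comm p hp _ hqa))
          fun p hp => Subgroup.mem_centralizer_singleton_iff.2 (PB.comm p hp _ hqb)
      exact Subgroup.mem_centralizer_singleton_iff.1 (hle ⟨t, ht, rfl⟩)
  obtain ⟨H, -, -⟩ := exists_amalg PA PB hAB hBA hne hD (hZeq ▸ hNZ) hgen hneAB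
  exact ⟨H⟩

end CfsgM12Amalgam
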