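import Cfsg.Agent.Lib.M12Amalgam.Setup
import Cfsg.Agent.Lib.M12Amalgam.Cube

/-!
Two groups of the shape 3^2:GL(2,3) with a common Borel subgroup: the relations of the six involutions.
-/

set_option autoImplicit false
set_option maxRecDepth 100000

namespace CfsgM12Amalgam

theorem wa_ok : (incr (WA.map code) && WA.all okA && WA.length == 432) = true := by decide +kernel

/-- The six elements commuting with the commutator and the product of the two involutions. -/
def six : List (List ℕ) := [[], wZ, wZ ++ wZ, [0, 1], wZ ++ [0, 1], wZ ++ wZ ++ [0, 1]]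

theorem cent_check : (WA.all fun w => !(code (w ++ wZ) == code (wZ ++ w) && code (w ++ [0, 1]) == code ([0, 1] ++ w)) ||
    six.any fun s => code s == code w) = true := by decide +kernel

namespace Amalg

variable {G : Type*} [Group G] [Finite G] (H : Amalg G)

/-- The letters. -/
def τ (l : ℕ) : G := letters H.h H.k H.x H.y H.b H.d l

omit [Finite G] in
theorem τ_high {l : ℕ} (hl : 6 ≤ l) : H.τ l = 1 := by
  unfold τ letters
  exact List.getD_eq_default _ _ hl

omit [Finite G] in
theorem τ_swap (l : ℕ) : letters H.k H.h H.y H.x H.d H.b (sw l) = H.τ l := by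
  rcases Nat.lt_or_ge l 6 with hl | hl
  · interval_cases l <;> rfl
  · rw [H.τ_high hl]
    simp [sw, letters, hl]

omit [Finite G] in
theorem eqA {u w : List ℕ} (hu : okA u = true) (hw : okA w = true) (e : code u = code w) : val H.τ u = val H.τ w :=
  H.sA.word_eq H.d hu hw e

omit [Finite G] in
theorem eqB {u w : List ℕ} (hu : okB u = true) (hw : okB w = true) (e : code (u.map sw) = code (w.map sw)) :
    val H.τ u = val H.τ w := by
  have key : ∀ v : List ℕ, val (letters H.k H.h H.y H.x H.d H.b) (v.map sw) = val H.τ v := fun v => by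
    simp only [val, List.map_map]
    exact congrArg List.prod (List.map_congr_left fun l _ => H.τ_swap l)
  rw [← key, ← key]
  exact H.sB.word_eq H.b hu hw e

omit [Finite G] in
theorem memA {w : List ℕ} (hw : okA w = true) : val H.τ w ∈ H.A := H.sA.val_mem H.d hw

omit [Finite G] in
theorem memB {w : List ℕ} (hw : okB w = true) : val H.τ w ∈ H.B := by
  have h := H.sB.val_mem H.b (w := w.map sw) hw
  simp only [val, List.map_map] at h
  have e : w.map (letters H.k H.h H.y H.x H.d H.b ∘ sw) = w.map H.τ := List.map_congr_left fun l _ => H.τ_swap l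
  rwa [e] at h

omit [Finite G] in
theorem τ_sq (l : ℕ) : H.τ l * H.τ l = 1 := by
  rcases Nat.lt_or_ge l 6 with hl | hl
  · have key : val H.τ [l, l] = val H.τ [] := by
      interval_cases l
      all_goals first
        | exact H.eqA (by decide) (by decide) (by decide)
        | exact H.eqB (by decide) (by decide) (by decide)
    simpa [val] using key
  · rw [H.τ_high hl, one_mul]

omit [Finite G] in
theorem eqRed {u w : List ℕ} (e : red u = red w) : val H.τ u = val H.τ w := by
  rw [val, val, ← prod_red H.τ H.τ_sq u, e, prod_red H.τ H.τ_sq w]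

omit [Finite G] in
theorem val_one : ∀ l : ℕ, val H.τ [l] = H.τ l := fun l => by simp [val]

/-- Every element of the first group is given by a word. -/
theorem coverA {g : G} (hg : g ∈ H.A) : ∃ w ∈ WA, okA w = true ∧ val H.τ w = g := by
  have hok := wa_ok
  simp only [Bool.and_eq_true, beq_iff_eq, List.all_eq_true] at hok
  obtain ⟨⟨hinc, hall⟩, hlen⟩ := hok
  let f : Fin WA.length → H.A := fun i => ⟨val H.τ WA[i], H.memA (hall _ (List.getElem_mem i.2))⟩
  have hf : Function.Injective f := by
    intro i j e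
    have e' := H.sA.code_eq H.d (hall _ (List.getElem_mem i.2)) (hall _ (List.getElem_mem j.2))
      (congrArg Subtype.val e)
    refine Fin.ext ((incr_nodup hinc).getElem_inj_iff (hi := by simp) (hj := by simp) |>.1 ?_)
    simpa using e'
  have hb : Function.Bijective f :=
    (Nat.bijective_iff_injective_and_card f).2 ⟨hf, by rw [Nat.card_fin, hlen, H.cardA]⟩
  obtain ⟨i, hi⟩ := hb.2 ⟨g, hg⟩
  exact ⟨_, List.getElem_mem i.2, hall _ (List.getElem_mem i.2), congrArg Subtype.val hi⟩

omit [Finite G] in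
theorem conj_word {g u w : List ℕ} (e : val H.τ (g ++ u ++ g.reverse) = val H.τ w) :
    val H.τ g * val H.τ u * (val H.τ g)⁻¹ = val H.τ w := by
  rw [← e, val_append, val_append, val_rev H.τ H.τ_sq]

omit [Finite G] in
theorem valZ : val H.τ wZ = H.z := by
  have hi : H.h⁻¹ = H.h := inv_eq_of_mul_eq_one_right H.sA.hh
  have ki : H.k⁻¹ = H.k := inv_eq_of_mul_eq_one_right H.sA.kk
  have e1 : H.τ 1 * H.τ 2 = H.y := by
    show H.k * (H.k * H.y) = H.y
    rw [← mul_assoc, H.sA.kk, one_mul]
  have e2 : H.τ 0 * H.τ 4 = H.x := by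
    show H.h * (H.h * H.x) = H.x
    rw [← mul_assoc, H.sA.hh, one_mul]
  have e3 : H.τ 2 * H.τ 1 = H.y⁻¹ := by
    rw [← inv_eq_of_mul_eq_one_right (H.τ_sq 2), ← inv_eq_of_mul_eq_one_right (H.τ_sq 1), ← mul_inv_rev, e1]
  have e4 : H.τ 4 * H.τ 0 = H.x⁻¹ := by
    rw [← inv_eq_of_mul_eq_one_right (H.τ_sq 4), ← inv_eq_of_mul_eq_one_right (H.τ_sq 0), ← mul_inv_rev, e2]
  calc val H.τ wZ = (H.τ 1 * H.τ 2) * (H.τ 0 * H.τ 4) * (H.τ 2 * H.τ 1) * (H.τ 4 * H.τ 0) := by
        simp [val, wZ, mul_assoc]
    _ = H.y * H.x * H.y⁻¹ * H.x⁻¹ := by rw [e1, e2, e3, e4]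
    _ = H.z := by rw [H.sA.yx, mul_inv_cancel_right]

/-- The centraliser of an element of order three in the centraliser of the involution. -/
theorem centY {g : G} (hy : g * H.y = H.y * g) (hh : g * H.h = H.h * g) :
    ∃ i j : ℕ, g = H.y ^ i * H.h ^ j := by
  have evalY : val H.τ [1, 2] = H.y := by
    show H.k * (H.k * H.y * 1) = H.y
    rw [mul_one, ← mul_assoc, H.sA.kk, one_mul]
  have e1 : val H.τ wGB * H.z * (val H.τ wGB)⁻¹ = H.y := by
    rw [← H.valZ, ← evalY]
    exact H.conj_word (H.eqB (by decide) (by decide) (by decide +kernel))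
  have e2 : val H.τ wGB * val H.τ [0, 1] * (val H.τ wGB)⁻¹ = H.h := by
    rw [show H.h = val H.τ [0] from (H.val_one 0).symm]
    exact H.conj_word (H.eqB (by decide) (by decide) (by decide +kernel))
  set q := val H.τ wGB
  set g' := q⁻¹ * g * q with hg'
  have c1 : g' * H.z = H.z * g' := by
    have : H.z = q⁻¹ * H.y * q := by rw [← e1]; group
    rw [this, hg']
    calc _ = q⁻¹ * (g * H.y) * q := by group
      _ = _ := by rw [hy]; group
  have c2 : g' * val H.τ [0, 1] = val H.τ [0, 1] * g' := by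
    have : val H.τ [0, 1] = q⁻¹ * H.h * q := by rw [← e2]; group
    rw [this, hg']
    calc _ = q⁻¹ * (g * H.h) * q := by group
      _ = _ := by rw [hh]; group
  obtain ⟨w, hw, hok, hwv⟩ := H.coverA (H.centz g' (mul_inv_eq_iff_eq_mul.2 c1))
  rw [← hwv] at c1 c2
  have hok2 : ∀ u, okA u = true → okA (w ++ u) = true ∧ okA (u ++ w) = true := fun u hu => by
    simp only [okA, List.all_append, Bool.and_eq_true] at hok hu ⊢
    exact ⟨⟨hok, hu⟩, hu, hok⟩
  have hz : okA wZ = true := by decide
  have d1 : code (w ++ wZ) = code (wZ ++ w) := H.sA.code_eq H.d (hok2 _ hz).1 (hok2 _ hz).2 (by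
    show val H.τ _ = val H.τ _
    rw [val_append, val_append, H.valZ]; exact c1)
  have d2 : code (w ++ [0, 1]) = code ([0, 1] ++ w) := H.sA.code_eq H.d (hok2 _ (by decide)).1 (hok2 _ (by decide)).2 (by
    show val H.τ _ = val H.τ _
    rw [val_append, val_append]; exact c2)
  have hc := List.all_eq_true.1 cent_check w hw
  simp only [d1, d2, beq_self_eq_true, Bool.and_self, Bool.not_true, Bool.false_or, List.any_eq_true, beq_iff_eq] at hc
  obtain ⟨s, hs, hcs⟩ := hc
  have hsA : okA s = true := List.all_eq_true.1 (show six.all okA = true by decide) s hs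
  have eg : g = q * val H.τ s * q⁻¹ := by
    rw [H.eqA hsA hok hcs, hwv, hg']; group
  have hmul : ∀ a b : G, q * (a * b) * q⁻¹ = (q * a * q⁻¹) * (q * b * q⁻¹) := fun a b => by group
  simp only [six, List.mem_cons, List.not_mem_nil, or_false] at hs
  rcases hs with rfl | rfl | rfl | rfl | rfl | rfl
  · exact ⟨0, 0, by rw [eg]; simp [val]⟩
  · exact ⟨1, 0, by rw [eg, H.valZ, e1]; simp⟩
  · exact ⟨2, 0, by rw [eg, val_append, hmul, H.valZ, e1]; simp [sq]⟩
  · exact ⟨0, 1, by rw [eg, e2]; simp⟩
  · exact ⟨1, 1, by rw [eg, val_append, hmul, H.valZ, e1, e2]; simp⟩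
  · exact ⟨2, 1, by rw [eg, val_append, hmul, val_append, hmul, H.valZ, e1, e2]; simp [sq]⟩

omit [Finite G] in
theorem conj_g : val H.τ wG * H.τ 1 * (val H.τ wG)⁻¹ = H.τ 0 ∧
    val H.τ wG * H.τ 0 * (val H.τ wG)⁻¹ = val H.τ [0, 1] ∧
    val H.τ wG * val H.τ [0, 4] * (val H.τ wG)⁻¹ = val H.τ wY := by
  have hsplit : ∀ u a b : List ℕ, val H.τ (wGA ++ u ++ wGA.reverse) = val H.τ a →
      val H.τ (wGB ++ a ++ wGB.reverse) = val H.τ b → val H.τ wG * val H.τ u * (val H.τ wG)⁻¹ = val H.τ b := by
    intro u a b h1 h2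
    rw [← H.conj_word h2, ← H.conj_word h1, show wG = wGB ++ wGA from rfl, val_append]
    group
  rw [← H.val_one 1, ← H.val_one 0]
  exact ⟨hsplit [1] [0, 1] [0] (H.eqA (by decide) (by decide) (by decide +kernel))
      (H.eqB (by decide) (by decide) (by decide +kernel)),
    hsplit [0] [0] [0, 1] (H.eqA (by decide) (by decide) (by decide +kernel))
      (H.eqB (by decide) (by decide) (by decide +kernel)),
    hsplit [0, 4] wZ.reverse wY (H.eqA (by decide) (by decide) (by decide +kernel))
      (H.eqB (by decide) (by decide) (by decide +kernel))⟩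

omit [Finite G] in
theorem valV : val H.τ wV = val H.τ wG * val H.τ wV0 * (val H.τ wG)⁻¹ := by
  rw [show wV = wG ++ wV0 ++ wG.reverse from rfl, val_append, val_append, val_rev H.τ H.τ_sq]

/-- The relation of the two elements of order four. -/
theorem cube_rel : val H.τ (wU ++ wV ++ wY ++ (wU ++ wV ++ wY) ++ (wU ++ wV ++ wY)) = 1 ∨
    val H.τ (wU ++ wV ++ wY ++ (wU ++ wV ++ wY) ++ (wU ++ wV ++ wY) ++ [0]) = 1 := by
  obtain ⟨g1, g0, gx⟩ := H.conj_g
  set γ := val H.τ wG
  have hT0 : H.τ 0 = H.h := rfl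
  have hyv : H.y = val H.τ [1, 2] := by
    show H.y = H.k * (H.k * H.y * 1)
    rw [mul_one, ← mul_assoc, H.sA.kk, one_mul]
  have hYv : val H.τ wY = H.y⁻¹ := by
    rw [hyv, ← val_rev H.τ H.τ_sq]; rfl
  have conjA : ∀ g u w, val H.τ (g ++ u ++ g.reverse) = val H.τ w → val H.τ g * val H.τ u * (val H.τ g)⁻¹ = val H.τ w :=
    fun g u w e => H.conj_word e
  -- membership in the centraliser
  let C : Subgroup G := Subgroup.centralizer {H.h}
  have mC : ∀ g : G, g ∈ C ↔ g * H.h = H.h * g := fun g => by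
    rw [Subgroup.mem_centralizer_singleton_iff]
  have uH : val H.τ wU * H.h = H.h * val H.τ wU := by
    rw [show H.h = val H.τ [0] from (H.val_one 0).symm, ← val_append, ← val_append]
    exact H.eqA (by decide) (by decide) (by decide +kernel)
  have v0K : val H.τ wV0 * H.τ 1 = H.τ 1 * val H.τ wV0 := by
    rw [← H.val_one 1, ← val_append, ← val_append]
    exact H.eqB (by decide) (by decide) (by decide +kernel)
  have hconjmul : ∀ a b : G, γ * (a * b) * γ⁻¹ = (γ * a * γ⁻¹) * (γ * b * γ⁻¹) := fun a b => by group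
  have vH : val H.τ wV * H.h = H.h * val H.τ wV := by
    rw [H.valV, ← hT0, ← g1, ← hconjmul, v0K, hconjmul]
  have cH : val H.τ [0, 1] * H.h = H.h * val H.τ [0, 1] := by
    rw [show H.h = val H.τ [0] from (H.val_one 0).symm, ← val_append, ← val_append]
    exact H.eqA (by decide) (by decide) (by decide +kernel)
  have yH : H.y⁻¹ * H.h = H.h * H.y⁻¹ := by
    have e : H.h * H.y = H.y * H.h := mul_inv_eq_iff_eq_mul.1 H.sA.hy
    exact ((show Commute H.y H.h from e.symm).inv_left).eq
  -- identities in the two groups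
  have uu : val H.τ wU * val H.τ wU = H.h := by
    rw [show H.h = val H.τ [0] from (H.val_one 0).symm, ← val_append]
    exact H.eqA (by decide) (by decide) (by decide +kernel)
  have uy : val H.τ wU * (val H.τ wY * val H.τ wU * (val H.τ wY)⁻¹) =
      val H.τ wY * val H.τ wY * val H.τ wU * (val H.τ wY)⁻¹ * (val H.τ wY)⁻¹ := by
    rw [← val_rev H.τ H.τ_sq]
    simp only [← val_append]
    exact H.eqA (by decide) (by decide) (by decide +kernel)
  have cu : val H.τ [0, 1] * val H.τ wU * (val H.τ [0, 1])⁻¹ = val H.τ wU * H.h := by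
    rw [show H.h = val H.τ [0] from (H.val_one 0).symm, ← val_rev H.τ H.τ_sq]
    simp only [← val_append]
    exact H.eqA (by decide) (by decide) (by decide +kernel)
  have vv : val H.τ wV * val H.τ wV = H.h := by
    rw [H.valV, ← hconjmul, ← hT0, ← g1, ← H.val_one 1, ← val_append]
    exact congrArg (fun a => γ * a * γ⁻¹) (H.eqB (by decide) (by decide) (by decide +kernel))
  have vy : val H.τ wV * (val H.τ wY * val H.τ wV * (val H.τ wY)⁻¹) =
      val H.τ wY * val H.τ wY * val H.τ wV * (val H.τ wY)⁻¹ * (val H.τ wY)⁻¹ := by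
    rw [H.valV, show val H.τ wG = γ from rfl, ← gx]
    have e : val H.τ wV0 * (val H.τ [0, 4] * val H.τ wV0 * (val H.τ [0, 4])⁻¹) =
        val H.τ [0, 4] * val H.τ [0, 4] * val H.τ wV0 * (val H.τ [0, 4])⁻¹ * (val H.τ [0, 4])⁻¹ := by
      rw [← val_rev H.τ H.τ_sq]
      simp only [← val_append]
      exact H.eqB (by decide) (by decide) (by decide +kernel)
    calc _ = γ * (val H.τ wV0 * (val H.τ [0, 4] * val H.τ wV0 * (val H.τ [0, 4])⁻¹)) * γ⁻¹ := by group
      _ = _ := by rw [e]; group
  have cv : val H.τ [0, 1] * val H.τ wV * (val H.τ [0, 1])⁻¹ = val H.τ wV * H.h := by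
    rw [H.valV, show val H.τ wG = γ from rfl, ← g0, ← hT0]
    have e : H.τ 0 * val H.τ wV0 * (H.τ 0)⁻¹ = val H.τ wV0 * H.τ 1 := by
      rw [inv_eq_of_mul_eq_one_right (H.τ_sq 0), ← H.val_one 0, ← H.val_one 1]
      simp only [← val_append]
      exact H.eqB (by decide) (by decide) (by decide +kernel)
    calc _ = γ * (H.τ 0 * val H.τ wV0 * (H.τ 0)⁻¹) * γ⁻¹ := by group
      _ = _ := by rw [e, hconjmul, g1]
  have cc : val H.τ [0, 1] * val H.τ [0, 1] = 1 := by
    rw [← val_append]
    exact H.eqA (w := []) (by decide) (by decide) (by decide +kernel)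
  have cy : val H.τ [0, 1] * val H.τ wY * (val H.τ [0, 1])⁻¹ = (val H.τ wY)⁻¹ := by
    rw [← val_rev H.τ H.τ_sq, ← val_rev H.τ H.τ_sq]
    simp only [← val_append]
    exact H.eqA (by decide) (by decide) (by decide +kernel)
  -- the quotient of the centraliser
  have D : CubeData (⟨H.h, (mC _).2 rfl⟩ : C) ⟨val H.τ [0, 1], (mC _).2 cH⟩ ⟨val H.τ wY, (mC _).2 (hYv ▸ yH)⟩
      ⟨val H.τ wU, (mC _).2 uH⟩ ⟨val H.τ wV, (mC _).2 vH⟩ :=
    { hc := fun g => Subtype.ext ((mC _).1 g.2)
      hh := Subtype.ext H.sA.hh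
      h1 := fun e => H.sA.z1 (by
        have e1 : H.h = 1 := congrArg Subtype.val e
        have hz := H.sA.hz
        rw [e1, one_mul, inv_one, mul_one] at hz
        have h3 := H.sA.z3
        rw [pow_succ, pow_two] at h3
        nth_rw 2 [hz] at h3
        rwa [mul_inv_cancel, one_mul] at h3)
      y3 := Subtype.ext (by
        show val H.τ wY ^ 3 = 1
        rw [hYv, inv_pow, inv_eq_one, hyv, pow_succ, pow_two, ← val_append, ← val_append]
        exact H.eqA (w := []) (by decide) (by decide) (by decide +kernel))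
      y1 := fun e => by
        have e1 : val H.τ wY = val H.τ [] := congrArg Subtype.val e
        exact absurd (H.sA.code_eq H.d (u := wY) (w := []) (by decide) (by decide) e1) (by decide)
      cc := Subtype.ext cc
      cy := Subtype.ext cy
      cent := fun g hg => by
        have h1 : (g : G) * val H.τ wY = val H.τ wY * g := congrArg Subtype.val hg
        rw [hYv] at h1
        obtain ⟨i, j, e⟩ := H.centY (g := g) (by
          simpa only [inv_inv] using (show Commute (g : G) H.y⁻¹ from h1).inv_right.eq) ((mC _).1 g.2)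
        refine ⟨2 * i, j, Subtype.ext ?_⟩
        show (g : G) = val H.τ wY ^ (2 * i) * H.h ^ j
        rw [e, hYv, pow_mul]
        congr 2
        rw [inv_pow]
        refine eq_inv_of_mul_eq_one_left ?_
        rw [← pow_succ', hyv, pow_succ, pow_two, ← val_append, ← val_append]
        exact H.eqA (w := []) (by decide) (by decide) (by decide +kernel)
      uu := Subtype.ext uu
      uy := Subtype.ext uy
      cu := Subtype.ext cu
      vv := Subtype.ext vv
      vy := Subtype.ext vy
      cv := Subtype.ext cv }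
  have hprod : val H.τ (wU ++ wV ++ wY ++ (wU ++ wV ++ wY) ++ (wU ++ wV ++ wY)) =
      (val H.τ wU * val H.τ wV * val H.τ wY) ^ 3 := by
    simp only [val_append, pow_succ, pow_two]
    group
  rcases D.cube with e | e
  · exact Or.inl (hprod.trans (congrArg Subtype.val e))
  · refine Or.inr ?_
    rw [val_append, hprod, H.val_one 0, show (val H.τ wU * val H.τ wV * val H.τ wY) ^ 3 = H.h from congrArg Subtype.val e]
    exact H.sA.hh

end Amalg

end CfsgM12Amalgam
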