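import Cfsg.Agent.Lib.M12Amalgam.Words
import Cfsg.Agent.Lib.M12Amalgam.Local

/-!
Two groups of the shape 3^2:GL(2,3) with a common Borel subgroup: the generators.
-/

set_option autoImplicit false

namespace CfsgM12Amalgam

/-- The configuration. -/
structure Amalg (G : Type*) [Group G] where
  /-- the first group -/
  A : Subgroup G
  /-- the second group -/
  B : Subgroup G
  /-- the involution inverting the first normal subgroup -/
  h : G
  /-- the involution inverting the second normal subgroup -/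
  k : G
  /-- the commutator -/
  z : G
  /-- an element of the first normal subgroup -/
  x : G
  /-- an element of the second normal subgroup -/
  y : G
  /-- a unipotent element of the first group -/
  b : G
  /-- a unipotent element of the second group -/
  d : G
  sA : Side A h k z x y b
  sB : Side B k h z⁻¹ y x d
  cardA : Nat.card A = 432
  cardB : Nat.card B = 432
  gen : A ⊔ B = ⊤
  centz : ∀ g : G, g * z * g⁻¹ = z → g ∈ A
  ne : A ≠ B

namespace Part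

variable {G : Type*} [Group G] [Finite G] {A Q : Subgroup G} (P : Part A Q)

include P in
theorem mkSide {h k z x y : G} (hh : h * h = 1) (hinv : ∀ q ∈ Q, h * q * h⁻¹ = q⁻¹) (hA : h ∈ A) (kA : k ∈ A)
    (kk : k * k = 1) (hk : h * k = k * h) (hz : z ∈ Q) (hx : x ∈ Q) (z1 : z ≠ 1) (x1 : x ≠ 1)
    (kz : k * z * k⁻¹ = z⁻¹) (kx : k * x * k⁻¹ = x) (yA : y ∈ A) (hy : h * y * h⁻¹ = y) (yz : y * z * y⁻¹ = z)
    (yx : y * x * y⁻¹ = z * x) : ∃ b, Side A h k z x y b := by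
  have hne : x ∉ Subgroup.zpowers z := by
    intro hm
    obtain ⟨i, rfl⟩ := Subgroup.mem_zpowers_iff.1 hm
    refine x1 (P.sq_inj hx ?_)
    conv_lhs => rw [← kx, ← conj_zpow, kz, inv_zpow]
  obtain ⟨b, hb, bz, bx, bh⟩ := P.exists_act_comm hA hh hinv hz hx z1 hne ((1, 1), (0, 1)) (by decide)
  refine ⟨b, ⟨hA, kA, P.le hz, P.le hx, yA, hb, hh, kk, hk, P.exp z hz, P.exp x hx, z1, x1, hinv z hz, hinv x hx,
    hy, kz, kx, P.comm z hz x hx, yz, yx, bh, by simpa [coord] using bz, by simpa [coord] using bx, ?_⟩⟩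
  intro g hg eh ez ex
  exact P.faithful hinv (P.cent_two hz hx z1 hne hg ez ex) eh

end Part

theorem exists_amalg {G : Type*} [Group G] [Finite G] {A B QA QB : Subgroup G} (PA : Part A QA) (PB : Part B QB)
    (hAB : QA ≤ B) (hBA : QB ≤ A) (hne : QA ≠ QB) (hD : Nat.card ↥(QA ⊓ QB : Subgroup G) = 3)
    (hN : Subgroup.normalizer ((QA ⊓ QB : Subgroup G) : Set G) ≤ A ⊓ B) (hgen : A ⊔ B = ⊤)
    (hneAB : A ≠ B) :
    ∃ H : Amalg G, H.A = A ∧ H.B = B := by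
  classical
  set D := QA ⊓ QB with hDdef
  have hND : ∀ g, g ∈ A → g ∈ B → ∀ q ∈ D, g * q * g⁻¹ ∈ D := fun g ga gb q hq =>
    ⟨PA.normal g ga q hq.1, PB.normal g gb q hq.2⟩
  have hinD : ∀ g : G, (∀ q ∈ D, g * q * g⁻¹ ∈ D) → g ∈ A ⊓ B := by
    intro g hg
    refine hN (Subgroup.mem_normalizer_iff.2 fun q => ⟨hg q, fun hq => ?_⟩)
    let f : D → D := fun q => ⟨g * q * g⁻¹, hg q q.2⟩
    have hf : Function.Injective f := fun a b e => Subtype.ext (by simpa [f] using e)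
    obtain ⟨a, ha⟩ := (Finite.injective_iff_surjective.1 hf) ⟨_, hq⟩
    have : (a : G) = q := by simpa [f] using congrArg Subtype.val ha
    exact this ▸ a.2
  obtain ⟨a₀, a0A, a0sq, a0inv⟩ := PA.exists_inverting
  obtain ⟨k, kB, kk, kinv⟩ := PB.exists_inverting
  have mema : a₀ ∈ A ⊓ B := hinD _ fun q hq => by rw [a0inv q hq.1]; exact inv_mem hq
  have memk : k ∈ A ⊓ B := hinD _ fun q hq => by rw [kinv q hq.2]; exact inv_mem hq
  have kA : k ∈ A := memk.1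
  have a0i : a₀⁻¹ = a₀ := inv_eq_of_mul_eq_one_right a0sq
  have ki : k⁻¹ = k := inv_eq_of_mul_eq_one_right kk
  set q := a₀⁻¹ * (k * a₀ * k⁻¹) with hq'
  have hq : q ∈ QA := by
    refine PA.cent _ (mul_mem (inv_mem a0A) (mul_mem (mul_mem kA a0A) (inv_mem kA))) fun p hp => ?_
    refine mul_inv_eq_iff_eq_mul.1 ?_
    have e1 : k⁻¹ * p * k ∈ QA := by simpa using PA.normal k⁻¹ (inv_mem kA) p hp
    calc _ = a₀⁻¹ * (k * (a₀ * (k⁻¹ * p * k) * a₀⁻¹) * k⁻¹) * a₀ := by rw [hq']; group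
      _ = a₀⁻¹ * p⁻¹ * a₀ := by rw [a0inv _ e1]; group
      _ = p := by rw [← a0inv p hp]; group
  have kq : k * q * k⁻¹ = q⁻¹ := by
    calc k * q * k⁻¹ = (k * a₀⁻¹ * k⁻¹) * (k * k * a₀ * (k * k)⁻¹) := by rw [hq']; group
      _ = (k * a₀ * k⁻¹)⁻¹ * a₀ := by rw [kk]; group
      _ = q⁻¹ := by rw [hq']; group
  set h := a₀ * q⁻¹ with hdef
  have hA : h ∈ A := mul_mem a0A (inv_mem (PA.le hq))
  have hinv : ∀ p ∈ QA, h * p * h⁻¹ = p⁻¹ := fun p hp => by
    calc _ = a₀ * (q⁻¹ * p * q) * a₀⁻¹ := by rw [hdef]; group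
      _ = a₀ * p * a₀⁻¹ := by rw [PA.comm _ (inv_mem hq) p hp, inv_mul_cancel_right]
      _ = p⁻¹ := a0inv p hp
  have hh : h * h = 1 := by
    calc h * h = (a₀ * q⁻¹ * a₀⁻¹) * (a₀ * a₀) * q⁻¹ := by rw [hdef]; group
      _ = 1 := by rw [a0inv _ (inv_mem hq), a0sq]; group
  have qq : q * q = q⁻¹ := eq_inv_of_mul_eq_one_left (by rw [← PA.exp q hq, pow_succ, pow_two])
  have hk : h * k = k * h := by
    have e : k * h * k⁻¹ = h := by
      calc k * h * k⁻¹ = (k * a₀ * k⁻¹) * (k * q * k⁻¹)⁻¹ := by rw [hdef]; group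
        _ = a₀ * (q * q) := by rw [kq, inv_inv, hq']; group
        _ = h := by rw [qq]
    exact (mul_inv_eq_iff_eq_mul.1 e).symm
  have hB : h ∈ B := (hinD h fun p hp => by rw [hinv p hp.1]; exact inv_mem hp).2
  have hneB : h ≠ k := by
    intro e
    refine hne (SetLike.ext fun p => ?_)
    have hcomm : ∀ a ∈ QA, ∀ c ∈ QB, a * c = c * a := by
      intro a ha c hc
      have hm : a * c * a⁻¹ * c⁻¹ ∈ D :=
        ⟨by rw [show a * c * a⁻¹ * c⁻¹ = a * (c * a⁻¹ * c⁻¹) by group]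
            exact mul_mem ha (PA.normal c (hBA hc) _ (inv_mem ha)),
          (mul_mem (PB.normal a (hAB ha) c hc) (inv_mem hc : c⁻¹ ∈ QB) : a * c * a⁻¹ * c⁻¹ ∈ QB)⟩
      have e1 : h * (a * c * a⁻¹ * c⁻¹) * h⁻¹ = a⁻¹ * c⁻¹ * a * c := by
        have hc' : h * c * h⁻¹ = c⁻¹ := e ▸ kinv c hc
        calc _ = (h * a * h⁻¹) * (h * c * h⁻¹) * (h * a * h⁻¹)⁻¹ * (h * c * h⁻¹)⁻¹ := by group
          _ = _ := by rw [hinv a ha, hc']; group
      have hma : a * c * a⁻¹ * c⁻¹ ∈ QA := hm.1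
      have hmb : a * c * a⁻¹ * c⁻¹ ∈ QB := hm.2
      set m := a * c * a⁻¹ * c⁻¹ with hm'
      have c1 : m * a = a * m := PA.comm m hma a ha
      have c2 : m * c = c * m := PB.comm m hmb c hc
      have e2 : a⁻¹ * c⁻¹ * a * c = m := by
        calc a⁻¹ * c⁻¹ * a * c = (c * a)⁻¹ * m * (c * a) := by rw [hm']; group
          _ = (c * a)⁻¹ * ((c * a) * m) := by rw [mul_assoc, ← mul_assoc m, c2, mul_assoc c, c1]; group
          _ = m := by group
      rw [e2, hinv m hma] at e1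
      have := PA.sq_inj hma e1.symm
      rw [hm'] at this
      exact mul_inv_eq_iff_eq_mul.1 (mul_inv_eq_one.1 this)
    exact ⟨fun hp => PB.cent p (hAB hp) fun c hc => hcomm p hp c hc,
      fun hp => PA.cent p (hBA hp) fun a ha => (hcomm a ha p hp).symm⟩
  obtain ⟨x, hxQ, x1, kx⟩ := PA.exists_fixed hA hinv kA kk hk hh hneB
  have hinvh : ∀ p ∈ QB, k * p * k⁻¹ = p⁻¹ := kinv
  obtain ⟨y, hyQ, y1, hy⟩ := PB.exists_fixed kB hinvh hB hh hk.symm kk hneB.symm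
  set z := y * x * y⁻¹ * x⁻¹ with hzdef
  have hzA : z ∈ QA := mul_mem (PA.normal y (hBA hyQ) x hxQ) (inv_mem hxQ)
  have hzB : z ∈ QB := by
    rw [hzdef, show y * x * y⁻¹ * x⁻¹ = y * (x * y⁻¹ * x⁻¹) by group]
    exact mul_mem hyQ (PB.normal x (hAB hxQ) _ (inv_mem hyQ))
  have xD : x ∉ D := fun hm => x1 (PA.sq_inj hxQ (by rw [← kinv x hm.2, kx]))
  have z1 : z ≠ 1 := by
    intro e
    have hxy : y * x = x * y := mul_inv_eq_iff_eq_mul.1 (mul_inv_eq_one.1 e)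
    haveI : Nontrivial D := Finite.one_lt_card_iff_nontrivial.1 (by rw [hD]; norm_num)
    obtain ⟨⟨w, hw⟩, w1'⟩ := exists_ne (1 : D)
    have w1 : w ≠ 1 := fun e => w1' (Subtype.ext e)
    have hne' : x ∉ Subgroup.zpowers w := fun hm => xD (Subgroup.zpowers_le.2 hw hm)
    have hyA : y ∈ QA := PA.cent_two hw.1 hxQ w1 hne' (hBA hyQ)
      (mul_inv_eq_iff_eq_mul.2 (PB.comm y hyQ w hw.2)) (mul_inv_eq_iff_eq_mul.2 hxy)
    exact y1 (PB.sq_inj hyQ (by rw [← hinv y hyA, hy]))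
  have kz : k * z * k⁻¹ = z⁻¹ := kinv z hzB
  have yx : y * x * y⁻¹ = z * x := by rw [hzdef]; group
  have yz : y * z * y⁻¹ = z := mul_inv_eq_iff_eq_mul.2 (PB.comm y hyQ z hzB)
  obtain ⟨b, SA⟩ := PA.mkSide hh hinv hA kA kk hk hzA hxQ z1 x1 kz kx (hBA hyQ) hy yz yx
  have xz : x * z = z * x := PA.comm x hxQ z hzA
  have xy : x * y * x⁻¹ = z⁻¹ * y := by
    have e : z * (x * y) = y * x := by rw [hzdef]; group
    rw [eq_inv_mul_iff_mul_eq]
    calc z * (x * y * x⁻¹) = z * (x * y) * x⁻¹ := by group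
      _ = y := by rw [e]; group
  obtain ⟨d, SB⟩ := PB.mkSide kk hinvh kB hB hh hk.symm (inv_mem hzB) hyQ (by simpa using z1) y1
    (by rw [← conj_inv, hinv z hzA]) hy (hAB hxQ) kx
    (mul_inv_eq_iff_eq_mul.2 (PA.comm x hxQ _ (inv_mem hzA))) xy
  have hzD : Subgroup.zpowers z = D := by
    refine Subgroup.eq_of_le_of_card_ge (Subgroup.zpowers_le.2 ⟨hzA, hzB⟩) ?_
    rw [Nat.card_zpowers, PA.order_three hzA z1, hD]
  refine ⟨⟨A, B, h, k, z, x, y, b, d, SA, SB, PA.card, PB.card, hgen, ?_, ?_⟩, rfl, rfl⟩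
  · intro g hg
    refine (hinD g fun p hp => ?_).1
    rw [← hzD] at hp ⊢
    obtain ⟨i, rfl⟩ := Subgroup.mem_zpowers_iff.1 hp
    exact ⟨i, by rw [← conj_zpow, hg]⟩
  · exact hneAB

end CfsgM12Amalgam
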