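import Cfsg.Agent.Lib.M12Amalgam.Lists

/-!
Two groups of the shape 3^2:GL(2,3) with a common Borel subgroup: words in six involutions and their action on
the nine involutions inverting the normal subgroup of order nine.
-/

set_option autoImplicit false

namespace CfsgM12Amalgam

/-- The action of a letter on a point `3 * i + j` of the plane. -/
def lact : ℕ → ℕ → ℕ
  | 0, v => 3 * (2 * (v / 3) % 3) + 2 * (v % 3) % 3
  | 1, v => 3 * (2 * (v / 3) % 3) + v % 3
  | 2, v => 3 * ((2 * (v / 3) + 2 * (v % 3)) % 3) + v % 3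
  | 3, v => 3 * (2 * (v / 3) % 3) + (v / 3 + v % 3) % 3
  | _, v => 3 * (2 * (v / 3) % 3) + (2 * (v % 3) + 2) % 3

/-- The action of a word. -/
def act (w : List ℕ) (v : ℕ) : ℕ := w.foldr lact v

/-- The images of three points, packed. -/
def code (w : List ℕ) : ℕ := 81 * act w 0 + 9 * act w 3 + act w 1

/-- The renaming of the letters which exchanges the two groups. -/
def sw (l : ℕ) : ℕ := [1, 0, 4, 5, 2, 3].getD l 6

/-- A word in the letters of the first group. -/
def okA (w : List ℕ) : Bool := w.all fun l => Nat.blt l 5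

/-- A word in the letters of the second group. -/
def okB (w : List ℕ) : Bool := okA (w.map sw)

/-- A strictly increasing list. -/
def incr : List ℕ → Bool
  | [] => true
  | [_] => true
  | a :: b :: l => Nat.blt a b && incr (b :: l)

theorem incr_chain : ∀ l : List ℕ, incr l = true → l.Pairwise (· < ·)
  | [], _ => List.Pairwise.nil
  | [a], _ => List.pairwise_singleton _ a
  | a :: b :: l, h => by
    rw [incr, Bool.and_eq_true] at h
    have hp := incr_chain (b :: l) h.2
    refine List.pairwise_cons.2 ⟨fun c hc => ?_, hp⟩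
    have hab : a < b := by simpa [Nat.blt, Nat.ble_eq, Nat.succ_le_iff] using h.1
    rcases List.mem_cons.1 hc with rfl | hc
    · exact hab
    · exact hab.trans ((List.pairwise_cons.1 hp).1 c hc)

theorem incr_nodup {l : List ℕ} (h : incr l = true) : l.Nodup := (incr_chain l h).imp fun h => h.ne

/-- Cancellation of repeated neighbours. -/
def red : List ℕ → List ℕ
  | [] => []
  | a :: l => match red l with
    | [] => [a]
    | b :: r => if a = b then r else a :: b :: r

theorem prod_red {M : Type*} [Group M] (τ : ℕ → M) (h : ∀ l, τ l * τ l = 1) :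
    ∀ w : List ℕ, ((red w).map τ).prod = (w.map τ).prod
  | [] => rfl
  | a :: l => by
    have ih := prod_red τ h l
    cases hr : red l with
    | nil =>
      rw [hr] at ih
      simp only [red, hr, List.map_cons, List.prod_cons, ← ih, List.map_nil, List.prod_nil]
    | cons b r =>
      rw [hr] at ih
      simp only [red, hr]
      by_cases e : a = b
      · rw [if_pos e, List.map_cons, List.prod_cons, ← ih, List.map_cons, List.prod_cons, ← mul_assoc, e, h, one_mul]
      · rw [if_neg e, List.map_cons, List.prod_cons, ih, List.map_cons, List.prod_cons]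

variable {G : Type*} [Group G]

/-- The six letters. -/
def letters (h k x y b d : G) (l : ℕ) : G := [h, k, k * y, k * b, h * x, h * d].getD l 1

/-- The product of a word. -/
abbrev val (τ : ℕ → G) (w : List ℕ) : G := (w.map τ).prod

theorem val_append (τ : ℕ → G) (u v : List ℕ) : val τ (u ++ v) = val τ u * val τ v := by simp [val]

theorem val_rev (τ : ℕ → G) (h : ∀ l, τ l * τ l = 1) : ∀ w : List ℕ, val τ w.reverse = (val τ w)⁻¹
  | [] => by simp [val]
  | a :: l => by
    rw [List.reverse_cons, val_append, val_rev τ h l]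
    simp [val, inv_eq_of_mul_eq_one_right (h a)]

/-- One of the two groups with its generators. -/
structure Side (A : Subgroup G) (h k z x y b : G) : Prop where
  hA : h ∈ A
  kA : k ∈ A
  zA : z ∈ A
  xA : x ∈ A
  yA : y ∈ A
  bA : b ∈ A
  hh : h * h = 1
  kk : k * k = 1
  hk : h * k = k * h
  z3 : z ^ 3 = 1
  x3 : x ^ 3 = 1
  z1 : z ≠ 1
  x1 : x ≠ 1
  hz : h * z * h⁻¹ = z⁻¹
  hx : h * x * h⁻¹ = x⁻¹
  hy : h * y * h⁻¹ = y
  kz : k * z * k⁻¹ = z⁻¹
  kx : k * x * k⁻¹ = x
  zx : z * x = x * z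
  yz : y * z * y⁻¹ = z
  yx : y * x * y⁻¹ = z * x
  hb : h * b * h⁻¹ = b
  bz : b * z * b⁻¹ = z * x
  bx : b * x * b⁻¹ = x
  faithful : ∀ g ∈ A, g * h * g⁻¹ = h → g * z * g⁻¹ = z → g * x * g⁻¹ = x → g = 1

namespace Side

variable {A : Subgroup G} {h k z x y b : G} (S : Side A h k z x y b)
include S

/-- The letters of this side. -/
theorem lmem (d : G) {l : ℕ} (hl : l < 5) : letters h k x y b d l ∈ A := by
  interval_cases l <;> simp only [letters, List.getD_cons_zero, List.getD_cons_succ]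
  · exact S.hA
  · exact S.kA
  · exact mul_mem S.kA S.yA
  · exact mul_mem S.kA S.bA
  · exact mul_mem S.hA S.xA

/-- The element with the given coordinates. -/
theorem pt_eq (i j : ℕ) : z ^ i * x ^ j = z ^ (i % 3) * x ^ (j % 3) := by
  rw [← pow_mod_orderOf_eq z i S.z3, ← pow_mod_orderOf_eq x j S.x3]
where
  pow_mod_orderOf_eq (u : G) (n : ℕ) (h3 : u ^ 3 = 1) : u ^ (n % 3) = u ^ n := by
    conv_rhs => rw [← Nat.mod_add_div n 3, pow_add, pow_mul, h3, one_pow, mul_one]

theorem letter_pt (d : G) {l v : ℕ} (hl : l < 5) (hv : v < 9) :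
    letters h k x y b d l * (h * (z ^ (v / 3) * x ^ (v % 3))) * (letters h k x y b d l)⁻¹ =
      h * (z ^ (lact l v / 3) * x ^ (lact l v % 3)) ∧ lact l v < 9 := by
  have cz := S.zx
  have dv : ∀ a b : ℕ, (3 * a + b % 3) / 3 = a := fun a b => by omega
  have md : ∀ a b : ℕ, (3 * a + b % 3) % 3 = b % 3 := fun a b => by omega
  have hi : ∀ i j : ℕ, ∀ g : G, g * (z ^ i * x ^ j) * g⁻¹ = (g * z * g⁻¹) ^ i * (g * x * g⁻¹) ^ j := by
    intro i j g
    rw [conj_pow, conj_pow]
    group
  have hmul : ∀ g g' u : G, g * g' * u * (g * g')⁻¹ = g * (g' * u * g'⁻¹) * g⁻¹ := fun g g' u => by group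
  have hconj : ∀ g u : G, g * (h * u) * g⁻¹ = (g * h * g⁻¹) * (g * u * g⁻¹) := fun g u => by group
  have hh' : h⁻¹ = h := inv_eq_of_mul_eq_one_right S.hh
  have ehk : k * h * k⁻¹ = h := by rw [← S.hk, mul_inv_cancel_right]
  have ehh : h * h * h⁻¹ = h := by group
  have ehb : b * h * b⁻¹ = h := by
    have := S.hb
    have e : h * b = b * h := by
      conv_rhs => rw [← this]
      group
    rw [← e, mul_inv_cancel_right]
  have ehy : y * h * y⁻¹ = h := by
    have e : h * y = y * h := by
      conv_rhs => rw [← S.hy]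
      group
    rw [← e, mul_inv_cancel_right]
  have ehx : x * h * x⁻¹ = h * x := by
    have e : h * x = x⁻¹ * h := by
      conv_rhs => rw [← S.hx]
      group
    have e2 : x * x = x⁻¹ := eq_inv_of_mul_eq_one_left (by rw [← sq, ← pow_succ]; exact S.x3)
    calc x * h * x⁻¹ = x * h * x * x := by rw [← e2]; group
      _ = x * (h * x) * x := by group
      _ = x * x⁻¹ * h * x := by rw [e]; group
      _ = h * x := by rw [mul_inv_cancel, one_mul]
  have zi : z⁻¹ = z ^ 2 := inv_eq_of_mul_eq_one_right (by rw [← pow_succ']; exact S.z3)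
  have xi : x⁻¹ = x ^ 2 := inv_eq_of_mul_eq_one_right (by rw [← pow_succ']; exact S.x3)
  have hc : Commute z x := cz
  have hhh : ∀ i j : ℕ, h * (z ^ i * x ^ j) * h⁻¹ = z ^ (2 * i % 3) * x ^ (2 * j % 3) := fun i j => by
    rw [hi, S.hz, S.hx, zi, xi, ← pow_mul, ← pow_mul, ← S.pt_eq]
  have hkk : ∀ i j : ℕ, k * (z ^ i * x ^ j) * k⁻¹ = z ^ (2 * i % 3) * x ^ (j % 3) := fun i j => by
    rw [hi, S.kz, S.kx, zi, ← pow_mul, ← S.pt_eq]
  interval_cases l <;> simp only [letters, List.getD_cons_zero, List.getD_cons_succ, lact]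
  · refine ⟨?_, by omega⟩
    rw [hconj, ehh, hhh]
    congr 3 <;> simp only [dv, md, Nat.mod_mod] <;> omega
  · refine ⟨?_, by omega⟩
    rw [hconj, ehk, hkk]
    congr 3 <;> simp only [dv, md, Nat.mod_mod] <;> omega
  · refine ⟨?_, by omega⟩
    rw [hmul, hconj y, ehy, hi (v / 3) (v % 3) y, S.yz, S.yx, hc.mul_pow, ← mul_assoc (z ^ _), ← pow_add, hconj,
      ehk, hkk]
    congr 3 <;> simp only [dv, md, Nat.mod_mod] <;> omega
  · refine ⟨?_, by omega⟩
    rw [hmul, hconj b, ehb, hi (v / 3) (v % 3) b, S.bz, S.bx, hc.mul_pow, mul_assoc (z ^ (v / 3)), ← pow_add, hconj, ehk, hkk]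
    congr 3 <;> simp only [dv, md, Nat.mod_mod] <;> omega
  · refine ⟨?_, by omega⟩
    have e : x * (z ^ (v / 3) * x ^ (v % 3)) * x⁻¹ = z ^ (v / 3) * x ^ (v % 3) := by
      rw [((hc.pow_left _).symm.mul_right ((Commute.refl x).pow_right _)).eq, mul_inv_cancel_right]
    have e2 : x * (h * (z ^ (v / 3) * x ^ (v % 3))) * x⁻¹ = h * (z ^ (v / 3) * x ^ (v % 3 + 1)) := by
      rw [hconj, ehx, e, pow_succ', mul_assoc h, ← mul_assoc x, ← (hc.pow_left _).eq, mul_assoc (z ^ (v / 3))]
    rw [hmul, e2, hconj, ehh, hhh]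
    congr 3 <;> simp only [dv, md, Nat.mod_mod] <;> omega

theorem word_pt (d : G) : ∀ (w : List ℕ), okA w = true → ∀ v < 9,
    val (letters h k x y b d) w * (h * (z ^ (v / 3) * x ^ (v % 3))) * (val (letters h k x y b d) w)⁻¹ =
      h * (z ^ (act w v / 3) * x ^ (act w v % 3)) ∧ act w v < 9
  | [], _, v, hv => by simpa [val, act] using hv
  | a :: l, hw, v, hv => by
    simp only [okA, List.all_cons, Bool.and_eq_true] at hw
    obtain ⟨e, lt⟩ := word_pt d l hw.2 v hv
    have ha : a < 5 := by simpa [Nat.blt, Nat.ble_eq, Nat.succ_le_iff] using hw.1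
    obtain ⟨e', lt'⟩ := S.letter_pt d ha lt
    refine ⟨?_, lt'⟩
    simp only [val, List.map_cons, List.prod_cons] at e ⊢
    calc _ = letters h k x y b d a * ((l.map (letters h k x y b d)).prod * (h * (z ^ (v / 3) * x ^ (v % 3))) *
          ((l.map (letters h k x y b d)).prod)⁻¹) * (letters h k x y b d a)⁻¹ := by group
      _ = _ := by rw [e, e']; rfl

theorem val_mem (d : G) {w : List ℕ} (hw : okA w = true) : val (letters h k x y b d) w ∈ A := by
  refine Subgroup.list_prod_mem _ fun a ha => ?_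
  obtain ⟨l, hl, rfl⟩ := List.mem_map.1 ha
  exact S.lmem d (by simpa [Nat.blt, Nat.ble_eq, Nat.succ_le_iff] using List.all_eq_true.1 hw l hl)

/-- Words with the same code have the same value. -/
theorem word_eq (d : G) {u w : List ℕ} (hu : okA u = true) (hw : okA w = true) (e : code u = code w) :
    val (letters h k x y b d) u = val (letters h k x y b d) w := by
  set g := val (letters h k x y b d) u
  set g' := val (letters h k x y b d) w
  have hm : g'⁻¹ * g ∈ A := mul_mem (inv_mem (S.val_mem d hw)) (S.val_mem d hu)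
  have b0 : ∀ v < 9, ∀ w', okA w' = true → act w' v < 9 := fun v hv w' hw' => (S.word_pt d w' hw' v hv).2
  have l1 := b0 0 (by norm_num) u hu; have l2 := b0 3 (by norm_num) u hu; have l3 := b0 1 (by norm_num) u hu
  have m1 := b0 0 (by norm_num) w hw; have m2 := b0 3 (by norm_num) w hw; have m3 := b0 1 (by norm_num) w hw
  simp only [code] at e
  have key : ∀ v < 9, act u v = act w v → g'⁻¹ * g * (h * (z ^ (v / 3) * x ^ (v % 3))) * (g'⁻¹ * g)⁻¹ =
      h * (z ^ (v / 3) * x ^ (v % 3)) := by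
    intro v hv ev
    calc _ = g'⁻¹ * (g * (h * (z ^ (v / 3) * x ^ (v % 3))) * g⁻¹) * g' := by group
      _ = g'⁻¹ * (g' * (h * (z ^ (v / 3) * x ^ (v % 3))) * g'⁻¹) * g' := by
        rw [(S.word_pt d u hu v hv).1, (S.word_pt d w hw v hv).1, ev]
      _ = _ := by group
  have c0 := key 0 (by norm_num) (by omega)
  have c3 := key 3 (by norm_num) (by omega)
  have c1 := key 1 (by norm_num) (by omega)
  simp only [Nat.reduceDiv, Nat.reduceMod, pow_zero, pow_one, mul_one, one_mul] at c0 c3 c1
  set t := g'⁻¹ * g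
  have cz : t * z * t⁻¹ = z := by
    calc t * z * t⁻¹ = (t * h * t⁻¹)⁻¹ * (t * (h * z) * t⁻¹) := by group
      _ = z := by rw [c0, c3]; group
  have cx : t * x * t⁻¹ = x := by
    calc t * x * t⁻¹ = (t * h * t⁻¹)⁻¹ * (t * (h * x) * t⁻¹) := by group
      _ = x := by rw [c0, c1]; group
  exact (inv_mul_eq_one.1 (S.faithful t hm c0 cz cx)).symm

theorem pt_inj {v w : ℕ} (hv : v < 9) (hw : w < 9)
    (e : h * (z ^ (v / 3) * x ^ (v % 3)) = h * (z ^ (w / 3) * x ^ (w % 3))) : v = w := by
  have e1 := mul_left_cancel e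
  have conj : ∀ i j : ℕ, k * (z ^ i * x ^ j) * k⁻¹ = z⁻¹ ^ i * x ^ j := fun i j => by
    rw [← S.kz, conj_pow, ← mul_assoc]
    nth_rw 2 [← S.kx]
    rw [conj_pow]
    group
  have hc : Commute z x := S.zx
  have e2 : z⁻¹ ^ (v / 3) * x ^ (v % 3) = z⁻¹ ^ (w / 3) * x ^ (w % 3) := by rw [← conj, e1, conj]
  have oz : orderOf z = 3 := by
    haveI : Fact (Nat.Prime 3) := ⟨Nat.prime_three⟩
    exact orderOf_eq_prime S.z3 S.z1
  have ox : orderOf x = 3 := by
    haveI : Fact (Nat.Prime 3) := ⟨Nat.prime_three⟩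
    exact orderOf_eq_prime S.x3 S.x1
  have ez : z ^ (2 * (v / 3)) = z ^ (2 * (w / 3)) := by
    have hx2 : ∀ i j : ℕ, (z ^ i * x ^ j) * (z⁻¹ ^ i * x ^ j)⁻¹ = z ^ (2 * i) := fun i j => by
      rw [two_mul, pow_add]; group
    rw [← hx2 (v / 3) (v % 3), e1, e2, hx2]
  have ei : v / 3 = w / 3 := by
    rw [pow_eq_pow_iff_modEq, oz] at ez
    unfold Nat.ModEq at ez
    omega
  rw [ei] at e1
  have ej := mul_left_cancel e1
  rw [pow_eq_pow_iff_modEq, ox] at ej
  unfold Nat.ModEq at ej
  omega

/-- Words with different codes have different values. -/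
theorem code_eq (d : G) {u w : List ℕ} (hu : okA u = true) (hw : okA w = true)
    (e : val (letters h k x y b d) u = val (letters h k x y b d) w) : code u = code w := by
  have key : ∀ v < 9, act u v = act w v := fun v hv => by
    obtain ⟨e1, l1⟩ := S.word_pt d u hu v hv
    obtain ⟨e2, l2⟩ := S.word_pt d w hw v hv
    exact S.pt_inj l1 l2 (by rw [← e1, e, e2])
  simp only [code, key 0 (by norm_num), key 3 (by norm_num), key 1 (by norm_num)]

end Side

end CfsgM12Amalgam
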